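import Cfsg.Agent.Lib.RuGroup.TableDefs

/-!
Two lifts of commuting involutions whose commutator is the scalar minus one.
-/

set_option autoImplicit false

namespace CfsgLib.RuGroup

open CfsgLib.CosetEnum

/-- first word -/
def antiA : List ℕ := [5, 0, 2, 1, 3, 8, 8, 4, 2, 8, 5, 6, 4, 6]

/-- second word -/
def antiB : List ℕ := [5, 8, 1, 2, 6, 5, 8, 2, 2, 8, 4, 4, 5, 7]

/-- image of a vector under a word -/
noncomputable def imgW (w : List ℕ) (k : ℕ) : ℕ := List.rec k (fun g _ ih => img g ih) w

/-- the two words anticommute -/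
noncomputable def antiOK : Bool :=
  (antiA.all fun g => Nat.blt g 10) && (antiB.all fun g => Nat.blt g 10) &&
    vBase.all fun k => Nat.beq (imgW (antiA ++ antiB) k) (imgW ([9, 9] ++ antiB ++ antiA) k)

theorem anti_ok : antiOK = true := by decide +kernel

end CfsgLib.RuGroup
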