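import Cfsg.Agent.Lib.RuGroup.MultDefs

/-!
Kernel check of a quarter of the subgroup's elements.
-/

set_option autoImplicit false
set_option maxRecDepth 20000

namespace CfsgLib.RuGroup

open CfsgLib.CosetEnum

theorem keyRows3 : allUp keyRow 9 1536 = true := by decide +kernel

end CfsgLib.RuGroup
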