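import Cfsg.Agent.Lib.RuGroup.MultDefs

/-!
Kernel checks against double covers.
-/

set_option autoImplicit false
set_option maxRecDepth 20000

namespace CfsgLib.RuGroup

open CfsgLib.CosetEnum

theorem gen_ok' : genOK = true := by decide +kernel

theorem seven_w : sevenW = true := by decide +kernel

theorem four_w : fourW = true := by decide +kernel

theorem par_ok : parOK = true := by decide +kernel

theorem tpath_ok : tPathOK = true := by decide +kernel

theorem tinv_ok : tInvOK = true := by decide +kernel

theorem three_w : oddW 3 mOddThree 2 2 = true := by decide +kernel

theorem five_w : oddW 5 mOddFive 3 4 = true := by decide +kernel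

theorem sep_ok : ((List.range 8).all fun i => (List.range 8).all fun i' => sepOK i i') = true := by
  decide +kernel

end CfsgLib.RuGroup
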