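import Cfsg.Agent.Lib.RuGroup.OutDefs

/-!
Kernel checks for the outer automorphism group.
-/

set_option autoImplicit false

namespace CfsgLib.RuGroup

open CfsgLib.CosetEnum

theorem words_ok : wordsOK = true := by decide +kernel

theorem inv_ok : invOK = true := by decide +kernel

theorem gens_ok : gensOK = true := by decide +kernel

theorem rel_ok : relOK = true := by decide +kernel

theorem letters_ok : outLetters = true := by decide +kernel

theorem traceV_fix : cTraceOK wordV 29 0 0 traceVFix = true := by decide +kernel

theorem traceV_none : cTraceOK wordV 29 0 13 traceVNone = true := by decide +kernel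

theorem traceC_fix : cTraceOK wordC 14 5 5 traceCFix = true := by decide +kernel

theorem traceC_noneA : cTraceOK wordC 14 5 142 traceCNoneA = true := by decide +kernel

theorem traceC_noneB : cTraceOK wordC 14 5 243 traceCNoneB = true := by decide +kernel

theorem survV : allUp (survOK wordV 29 29 0 [0, 13]) 12 0 = true := by decide +kernel

theorem survC : allUp (survOK wordC 8 14 5 [5, 447, 142, 243]) 12 0 = true := by decide +kernel

theorem s_ne : (!(sameBase wordS [])) = true := by decide +kernel

theorem wordS_at : wordImg wordS 5 = 447 := by decide +kernel

end CfsgLib.RuGroup
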