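import Cfsg.Agent.Lib.RuGroup.MultDefs
import Cfsg.Agent.Lib.Schur.CosetSection

/-!
Kernel checks of the relators and of the table on the cosets.
-/

set_option autoImplicit false
set_option maxRecDepth 20000

namespace CfsgLib.RuGroup

open CfsgLib.Schur.InvTable

theorem tabT_ok : mTabT.okR mTabP.k = true := by decide +kernel

theorem whyP_ok : whysOK mTabP mWhyP = true := by decide +kernel

theorem whyT_ok : whysOK mTabT mWhyT = true := by decide +kernel

end CfsgLib.RuGroup
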