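import Cfsg.Agent.Lib.RuGroup.MultDefs

/-!
Kernel check of the deductions for the subgroup.
-/

set_option autoImplicit false
set_option maxRecDepth 100000

namespace CfsgLib.RuGroup

open CfsgLib.Schur.InvTable

theorem tabP_ok : mTabP.ok = true := by decide +kernel

end CfsgLib.RuGroup
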