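import Cfsg.Agent.Lib.RuGroup.Tits

/-!
The subgroup of index two of the point stabilizer is simple.
-/

set_option autoImplicit false
set_option maxRecDepth 100000

namespace CfsgLib.RuGroup

open CfsgLib.CosetEnum CfsgLib.RuLattice Cfsg.Spor

theorem exists_scalar_index {h : fourRu} {k : Fin 16240} (hk : lineF (vecAct h k) = lineF k) :
    ∃ m, ((vecAct h k : Fin 16240) : ℕ) = imgI m k.val := by
  obtain ⟨-, -, m1, -, e1⟩ := line_at (vecAct h k).isLt
  obtain ⟨hl, -, m2, hm2, e2⟩ := line_at k.isLt
  rw [show lineOf (vecAct h k).val = lineOf k.val from congrArg Fin.val hk] at e1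
  refine ⟨m1 + (4 - m2), e1.trans ?_⟩
  conv_rhs => rw [e2, imgI_add, show m1 + (4 - m2) + m2 = m1 + 4 by omega, ← imgI_add,
    imgI_four (rep_at hl).1]

theorem vecAct_scalar (m : ℕ) (k : Fin 16240) :
    ((vecAct (genR 9 ^ m) k : Fin 16240) : ℕ) = imgI m k.val := by
  induction m with
  | zero => rw [pow_zero, map_one]; rfl
  | succ m ih =>
    rw [pow_succ', map_mul, Equiv.Perm.mul_apply, vecAct_gen (by norm_num), ih]
    rfl

theorem imgI_inner {a b : ℕ} (ha : a < 16240) (hb : b < 16240) (m : ℕ) :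
    ∑ i, vCoord (imgI m a) i * vCoord (imgI m b) i = ∑ i, vCoord a i * vCoord b i := by
  have := vecAct_ip (genR 9 ^ m) ⟨a, ha⟩ ⟨b, hb⟩
  rwa [vecAct_scalar, vecAct_scalar] at this

theorem imgI_mod {k : ℕ} (hk : k < 16240) : ∀ m, imgI m k = imgI (m % 4) k := by
  intro m
  induction m using Nat.strong_induction_on with
  | _ m ih =>
    by_cases h : m < 4
    · rw [Nat.mod_eq_of_lt h]
    · conv_lhs => rw [show m = (m - 4) + 4 by omega, ← imgI_add, imgI_four hk]
      rw [ih (m - 4) (by omega), show (m - 4) % 4 = m % 4 by omega]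

theorem fixed_of_link {f : fourRu} {a b : Fin 16240} (ha : vecAct f a = a) (hb : lineF (vecAct f b) = lineF b)
    (hne : ∀ m < 4, m ≠ 0 →
      ∑ i, vCoord a.val i * vCoord (imgI m b.val) i ≠ ∑ i, vCoord a.val i * vCoord b.val i ∨
      ∑ i, vCoord (img 9 a.val) i * vCoord (imgI m b.val) i ≠ ∑ i, vCoord (img 9 a.val) i * vCoord b.val i) :
    vecAct f b = b := by
  obtain ⟨m, hm⟩ := exists_scalar_index hb
  have h := vecAct_ip f a b
  rw [ha, hm, imgI_mod b.isLt] at h
  have h' := vecAct_ip f ⟨img 9 a.val, img_lt (by norm_num) a.isLt⟩ b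
  rw [vecAct_I f a, hm, imgI_mod b.isLt] at h'
  simp only [ha] at h'
  by_cases h0 : m % 4 = 0
  · refine Fin.ext ?_
    rw [hm, imgI_mod b.isLt, h0]
    rfl
  · rcases hne (m % 4) (Nat.mod_lt _ (by norm_num)) h0 with e | e
    · exact absurd h e
    · exact absurd h' e

/-- inner products with nontrivial scalar multiples differ -/
noncomputable def linkPair (a b : ℕ) : Bool :=
  !(sameIp a (img 9 b) a b && sameIp (img 9 a) (img 9 b) (img 9 a) b) &&
    (!(sameIp a (img 9 (img 9 b)) a b && sameIp (img 9 a) (img 9 (img 9 b)) (img 9 a) b) &&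
      !(sameIp a (img 9 (img 9 (img 9 b))) a b && sameIp (img 9 a) (img 9 (img 9 (img 9 b))) (img 9 a) b))

theorem links_ok : (∀ i < 6, probeLinks.getD i 0 ≤ i ∧
    linkPair (probeVecs.getD (probeLinks.getD i 0) 0) (probeVecs.getD (i + 1) 0) = true) ∧
    linkPair 14081 16128 = true ∧ probeVecs.length = 7 ∧ 14081 ∈ probeSingles.map Prod.fst ∧
    (∀ d ∈ probeSingles, d.1 < 16240 ∧ ∀ c ∈ d.2, c ∈ probeVecs) ∧
    (∀ c ∈ probeVecs, c < 16240 ∧ half0Mask.testBit (lineOf c) = true) ∧
    (∀ c ∈ vBase, c = 16128 ∨ c ∈ probeSingles.map Prod.fst) ∧ lineOf 16128 = 0 := by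
  decide +kernel

theorem linkPair_spec {a b : ℕ} (ha : a < 16240) (hb : b < 16240) (h : linkPair a b = true) :
    ∀ m < 4, m ≠ 0 → ∑ i, vCoord a i * vCoord (imgI m b) i ≠ ∑ i, vCoord a i * vCoord b i ∨
      ∑ i, vCoord (img 9 a) i * vCoord (imgI m b) i ≠ ∑ i, vCoord (img 9 a) i * vCoord b i := by
  simp only [linkPair, Bool.and_eq_true, Bool.not_eq_true', Bool.and_eq_false_iff] at h
  intro m hm h0
  have ha' := img_lt (g := 9) (by norm_num) ha
  rw [ne_eq, ne_eq, ← sameIp_iff ha (imgI_lt hb m) ha hb, ← sameIp_iff ha' (imgI_lt hb m) ha' hb]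
  simp only [Bool.not_eq_true]
  interval_cases m
  · exact absurd rfl h0
  · exact h.1
  · exact h.2.1
  · exact h.2.2

/-- an element fixing the first line and the suborbit of length 1755 is trivial -/
theorem lineAct_eq_one {f : fourRu} (h0 : lineAct f 0 = 0)
    (hsub : ∀ x : Fin 4060, half0Mask.testBit x.val = true → lineAct f x = x) : lineAct f = 1 := by
  obtain ⟨hlink, hv0, hlen, hmem, hsing, hprobe, hbase, hl0⟩ := links_ok
  have hlines : ∀ (h : fourRu) (k : Fin 16240), lineF (vecAct h k) = lineAct h (lineF k) := fun h k =>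
    lineF_act h (lineF_repF (lineF k)).symm
  let p0 : Fin 16240 := ⟨probeVecs.getD 0 0, (hprobe _ (by
    rw [List.getD_eq_getElem _ _ (by omega)]; exact List.getElem_mem _)).1⟩
  have hp : ∀ c, c ∈ probeVecs → ∀ hc : c < 16240, lineF (vecAct f ⟨c, hc⟩) = lineF ⟨c, hc⟩ := fun c hc hlt => by
    rw [hlines]
    exact hsub _ (hprobe c hc).2
  obtain ⟨m, hm⟩ := exists_scalar_index (hp p0.val (by
    show probeVecs.getD 0 0 ∈ _
    rw [List.getD_eq_getElem _ _ (by omega)]; exact List.getElem_mem _) p0.isLt)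
  set z := genR 9 ^ (4 - m % 4) with hz
  have hzker : lineAct z = 1 := by rw [hz, map_pow, MonoidHom.mem_ker.1 nine_ker, one_pow]
  set g := z * f with hg
  have hgl : lineAct g = lineAct f := by rw [hg, map_mul, hzker, one_mul]
  have g0 : vecAct g p0 = p0 := by
    refine Fin.ext ?_
    rw [hg, map_mul, Equiv.Perm.mul_apply, hz, vecAct_scalar, show (vecAct f p0).val = imgI m p0.val from hm,
      imgI_add, imgI_mod p0.isLt, show (4 - m % 4 + m) % 4 = 0 by omega]
    rfl
  have gline : ∀ c ∈ probeVecs, ∀ hc : c < 16240, lineF (vecAct g ⟨c, hc⟩) = lineF ⟨c, hc⟩ := fun c hc hlt => by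
    rw [hlines, hgl, ← hlines, hp c hc hlt]
  have gall : ∀ i, i < 7 → ∀ h : probeVecs.getD i 0 < 16240,
      vecAct g ⟨probeVecs.getD i 0, h⟩ = ⟨probeVecs.getD i 0, h⟩ := by
    intro i
    induction i using Nat.strong_induction_on with
    | _ i ih =>
      intro hi h
      cases i with
      | zero => exact g0
      | succ i =>
        obtain ⟨hle, hlk⟩ := hlink i (by omega)
        have hj : probeVecs.getD (probeLinks.getD i 0) 0 < 16240 := (hprobe _ (by
          rw [List.getD_eq_getElem _ _ (by omega)]; exact List.getElem_mem _)).1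
        exact fixed_of_link (a := ⟨_, hj⟩) (ih _ (by omega) (by omega) hj)
          (gline _ (by rw [List.getD_eq_getElem _ _ (by omega)]; exact List.getElem_mem _) h)
          (linkPair_spec hj h hlk)
  have gfix : FixesList g probeVecs := by
    intro c hc h
    obtain ⟨i, hi, rfl⟩ := List.mem_iff_getElem.1 hc
    have := gall i (by omega) (by rw [List.getD_eq_getElem _ _ hi]; exact h)
    have e : probeVecs.getD i 0 = probeVecs[i] := List.getD_eq_getElem _ _ hi
    simp only [e] at this
    exact this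
  have gsing : ∀ c ∈ probeSingles.map Prod.fst, ∀ h : c < 16240, vecAct g ⟨c, h⟩ = ⟨c, h⟩ := by
    intro c hc h
    obtain ⟨d, hd, rfl⟩ := List.mem_map.1 hc
    exact single_fixed (t := ⟨d.1, h⟩) (List.all_eq_true.1 probe_singles d hd)
      (fun e he => gfix e ((hsing d hd).2 e he)) (fun e he => (hprobe e ((hsing d hd).2 e he)).1)
  have g16128 : vecAct g ⟨16128, by norm_num⟩ = ⟨16128, by norm_num⟩ := by
    refine fixed_of_link (a := ⟨14081, by norm_num⟩) (gsing 14081 hmem (by norm_num)) ?_
      (linkPair_spec (by norm_num) (by norm_num) hv0)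
    rw [hlines, hgl, show lineF ⟨16128, by norm_num⟩ = 0 from Fin.ext hl0, h0]
  have hone : g = 1 := eq_one_of_base fun c hc h => by
    rcases hbase c hc with rfl | hc'
    · exact g16128
    · exact gsing c hc' h
  rw [← hgl, hone, map_one]

instance halfFaithful : FaithfulSMul halfGrp SubPts := by
  refine ⟨fun {a b} h => ?_⟩
  have hab : ∀ x : Fin 4060, half0Mask.testBit x.val = true → (a⁻¹ * b).1 x = x := fun x hx => by
    have h1 : a • (⟨x, hx⟩ : SubPts) = b • ⟨x, hx⟩ := h _
    have h2 : a.1 x = b.1 x := congrArg Subtype.val h1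
    show (a.1⁻¹ * b.1) x = x
    rw [Equiv.Perm.mul_apply, ← h2, Equiv.Perm.inv_def, Equiv.symm_apply_apply]
  obtain ⟨⟨f, hf⟩, h0⟩ := half_le_stab (a⁻¹ * b).2
  have : lineAct f = 1 := lineAct_eq_one (by rw [hf]; exact h0) (fun x hx => by rw [hf]; exact hab x hx)
  exact inv_mul_eq_one.1 (Subtype.ext (by rw [← hf, this]; rfl))

theorem star_letters_fix : ∀ g ∈ [4, 5, 6, 7], lineImg g 65 = 65 := by decide +kernel

theorem half0_sixtyfive : half0Mask.testBit 65 = true := by decide +kernel

/-- the base point of the suborbit -/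
def pt65 : SubPts := ⟨⟨65, by norm_num⟩, half0_sixtyfive⟩

theorem shift_toNat (m x : ℕ) : Nat.mod (Nat.shiftRight m x) 2 = (m.testBit x).toNat := by
  rw [shift_bit]
  cases m.testBit x <;> rfl

theorem ite_toNat (b : Bool) {inst : Decidable (b = true)} :
    @ite ℕ (b = true) inst 1 0 = b.toNat := by
  cases b <;> simp

theorem half_suborbits (O : Finset SubPts) (h0 : pt65 ∈ O)
    (hinv : ∀ h : halfGrp, h • pt65 = pt65 → ∀ z ∈ O, h • z ∈ O)
    (hd : O.card ∣ Fintype.card SubPts) : O.card = 1 ∨ O.card = Fintype.card SubPts := by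
  rw [card_subPts] at hd ⊢
  set P : Finset (Fin 4060) := O.map (Function.Embedding.subtype _) with hP
  have hg : ∀ g ∈ [4, 5, 6, 7], ∀ z ∈ P, lineGen g z ∈ P := fun g hg z hz => by
    obtain ⟨w, hw, rfl⟩ := Finset.mem_map.1 hz
    have hm : g ∈ [2, 3, 4, 5, 6, 7] := by
      simp only [List.mem_cons, List.not_mem_nil, or_false] at hg ⊢
      omega
    have hg10 : g < 10 := by
      simp only [List.mem_cons, List.not_mem_nil, or_false] at hg
      omega
    let h : halfGrp := ⟨lineGen g, Subgroup.subset_closure ⟨g, hm, rfl⟩⟩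
    have e : h • pt65 = pt65 := Subtype.ext (Fin.ext ((lineGen_apply hg10 _).trans (star_letters_fix g hg)))
    exact Finset.mem_map.2 ⟨h • w, hinv h e w hw, rfl⟩
  have hS := List.all_eq_true.1 star_grow
  have a0 := part_card (hS starLev0 (by simp)) (O := P) (fun g hg' => hg g hg')
  have a1 := part_card (hS starLev1 (by simp)) (O := P) (fun g hg' => hg g hg')
  have a2 := part_card (hS starLev2 (by simp)) (O := P) (fun g hg' => hg g hg')
  have a3 := part_card (hS starLev3 (by simp)) (O := P) (fun g hg' => hg g hg')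
  rw [show starLev0.mask = starLev0Mask from rfl, show starLev0.len = 640 from rfl] at a0
  rw [show starLev1.mask = starLev1Mask from rfl, show starLev1.len = 80 from rfl] at a1
  rw [show starLev2.mask = starLev2Mask from rfl, show starLev2.len = 10 from rfl] at a2
  rw [show starLev3.mask = starLev3Mask from rfl, show starLev3.len = 1024 from rfl] at a3
  have hsum : P.card = 1 + ((P.filter fun z => starLev0Mask.testBit z.val = true).card +
      ((P.filter fun z => starLev1Mask.testBit z.val = true).card +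
        ((P.filter fun z => starLev2Mask.testBit z.val = true).card +
          (P.filter fun z => starLev3Mask.testBit z.val = true).card))) := by
    have h1 : (P.filter fun z : Fin 4060 => z = pt65.1).card = 1 := by
      have hmem : pt65.1 ∈ P := Finset.mem_map_of_mem (Function.Embedding.subtype _) h0
      simp only [Finset.filter_eq', hmem, if_true, Finset.card_singleton]
    rw [← h1, Finset.card_filter, Finset.card_filter, Finset.card_filter, Finset.card_filter, Finset.card_filter,
      Finset.card_eq_sum_ones, ← Finset.sum_add_distrib, ← Finset.sum_add_distrib, ← Finset.sum_add_distrib,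
      ← Finset.sum_add_distrib]
    refine Finset.sum_congr rfl fun z hz => ?_
    have hz0 : half0Mask.testBit z.val = true := by
      obtain ⟨w, -, rfl⟩ := Finset.mem_map.1 hz
      exact w.2
    have h := allUp_spec star_ok z.val (Nat.zero_le _) (by have := z.isLt; omega)
    simp only [starOK] at h
    rw [show ltB z.val (nat_lit 4060) = true from ltB_iff.mpr z.isLt, pick_true] at h
    have e := Nat.eq_of_beq_eq_true h
    simp only [Nat.add_eq, shift_toNat, hz0, Bool.toNat_true] at e
    by_cases hw : z = pt65.1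
    · have hv : z.val = 65 := congrArg Fin.val hw
      rw [show Nat.beq z.val (nat_lit 65) = true by rw [hv]; rfl, pick_true] at e
      simp only [if_pos hw, ite_toNat]
      omega
    · rw [show Nat.beq z.val (nat_lit 65) = false by
        rw [Bool.eq_false_iff]; exact fun e => hw (Fin.ext (Nat.eq_of_beq_eq_true e)), pick_false] at e
      simp only [if_neg hw, ite_toNat]
      omega
  rw [hP, Finset.card_map] at hsum
  rw [← hP] at hsum
  rcases a0 with a | a <;> rcases a1 with b | b <;> rcases a2 with c | c <;> rcases a3 with d | d <;>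
    simp only [a, b, c, d] at hsum <;> rw [hsum] at hd ⊢ <;>
    first
    | exact Or.inl rfl
    | exact Or.inr rfl
    | exact absurd hd (by norm_num)

theorem halfGrp_generated (N : Subgroup halfGrp) (h : ∀ x : halfGrp, x ^ 13 = 1 → x ∈ N) : N = ⊤ := by
  set H := N.map halfGrp.subtype with hH
  have hlet : ∀ g ∈ [2, 3, 4, 5, 6, 7], lineGen g ∈ halfGrp := fun g hg => Subgroup.subset_closure ⟨g, hg, rfl⟩
  have pw : ∀ w : List ℕ, (∀ g ∈ w, g ∈ [2, 3, 4, 5, 6, 7]) → (w.map lineGen).prod ^ 13 = 1 →
      (w.map lineGen).prod ∈ H := fun w hw he => by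
    have hmem : (w.map lineGen).prod ∈ halfGrp := list_prod_mem fun x hx => by
      obtain ⟨g, hg, rfl⟩ := List.mem_map.1 hx
      exact hlet g (hw g hg)
    exact ⟨⟨_, hmem⟩, h _ (Subtype.ext he), rfl⟩
  have h2 : lineGen 2 ∈ H := by simpa using pw [2] (by decide) (powers ([2], 13) (by simp))
  have h3 : lineGen 3 ∈ H := by simpa using pw [3] (by decide) (powers ([3], 13) (by simp))
  have h23 : ∀ u : List ℕ, (∀ x ∈ u, x = 2 ∨ x = 3) → ∀ x ∈ u, lineGen x ∈ H := fun u hu x hx => by
    rcases hu x hx with rfl | rfl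
    exacts [h2, h3]
  have h4 : lineGen 4 ∈ H := letter_mem (u := [2]) (by simpa using pw [4, 2] (by decide) (powers ([4, 2], 13) (by simp))) (h23 _ (by simp))
  have h5 : lineGen 5 ∈ H := letter_mem (u := [3, 3]) (by simpa using pw [5, 3, 3] (by decide) (powers ([5, 3, 3], 13) (by simp))) (h23 _ (by simp))
  have h6 : lineGen 6 ∈ H := letter_mem (u := [3, 2]) (by simpa using pw [6, 3, 2] (by decide) (powers ([6, 3, 2], 13) (by simp))) (h23 _ (by simp))
  have h7 : lineGen 7 ∈ H := letter_mem (u := [2]) (by simpa using pw [7, 2] (by decide) (powers ([7, 2], 13) (by simp))) (h23 _ (by simp))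
  rw [eq_top_iff]
  intro x _
  have hle : halfGrp ≤ H := by
    refine (Subgroup.closure_le _).2 ?_
    rintro _ ⟨g, hg, rfl⟩
    simp only [Set.mem_ofPred_eq, List.mem_cons, List.not_mem_nil, or_false] at hg
    rcases hg with rfl | rfl | rfl | rfl | rfl | rfl
    exacts [h2, h3, h4, h5, h6, h7]
  obtain ⟨y, hy, e⟩ := hle x.2
  exact Subtype.coe_injective e ▸ hy

theorem halfGrp_simple : IsSimpleGroup halfGrp := by
  haveI : Finite halfGrp := Nat.finite_of_card_ne_zero (by rw [card_halfGrp]; norm_num)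
  haveI : Nontrivial halfGrp := Finite.one_lt_card_iff_nontrivial.mp (by rw [card_halfGrp]; norm_num)
  exact isSimpleGroup_of_suborbits (α := SubPts) pt65 (p := 13) (by norm_num)
    (by rw [card_subPts]; norm_num) (by rw [card_halfGrp]; norm_num) half_suborbits halfGrp_generated

end CfsgLib.RuGroup
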