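import Cfsg.Prelude.Def_SporadicB
import Cfsg.Prelude.Def_Sporadic
import Cfsg.Prelude.Def_Exceptional
import Cfsg.Agent.Lib.RuGroup.TitsSimple

/-!
The permutation realization of degree 4060.
-/

set_option autoImplicit false

namespace CfsgLib.RuGroup

open CfsgLib.CosetEnum Cfsg.Spor

theorem ruP_isRu : Cfsg.IsRu RuP := ⟨ruP_simple, order_facts.2.1⟩

theorem realization : ∃ H : Subgroup (Equiv.Perm (Fin 4060)), Cfsg.IsRu H ∧
    MulAction.IsPretransitive H (Fin 4060) ∧ Nat.card (MulAction.stabilizer H (0 : Fin 4060)) = 35942400 ∧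
    ∃ T : Subgroup (MulAction.stabilizer H (0 : Fin 4060)), Cfsg.IsTits T := by
  refine ⟨RuP, ruP_isRu, ruP_pretransitive, ?_, ?_⟩
  · haveI := ruP_pretransitive
    have h := Subgroup.index_mul_card (MulAction.stabilizer RuP (0 : Fin 4060))
    rw [MulAction.index_stabilizer_of_transitive, Nat.card_fin, order_facts.2.1] at h
    omega
  · let φ : MulAction.stabilizer RuP (0 : Fin 4060) →* Equiv.Perm (Fin 4060) :=
      RuP.subtype.comp (MulAction.stabilizer RuP (0 : Fin 4060)).subtype
    have hinj : Function.Injective φ := fun a b e => Subtype.ext (Subtype.ext e)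
    have hle : halfGrp ≤ φ.range := fun f hf =>
      ⟨⟨⟨f, (half_le_stab hf).1⟩, (half_le_stab hf).2⟩, rfl⟩
    let e : halfGrp.comap φ ≃* halfGrp :=
      ((halfGrp.comap φ).equivMapOfInjective φ hinj).trans
        (MulEquiv.subgroupCongr (Subgroup.map_comap_eq_self hle))
    refine ⟨halfGrp.comap φ, ?_, ?_⟩
    · haveI := halfGrp_simple
      haveI : Nontrivial (halfGrp.comap φ) := e.toEquiv.nontrivial
      exact IsSimpleGroup.isSimpleGroup_of_surjective e.symm.toMonoidHom e.symm.surjective
    · rw [Nat.card_congr e.toEquiv, card_halfGrp]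

end CfsgLib.RuGroup
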