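import Cfsg.Agent.Lib.RuGroup.Simple
import Cfsg.Agent.Lib.RuGroup.CheckOut

/-!
Centralizers of the elements of order twenty-nine and fourteen on the lines.
-/

set_option autoImplicit false
set_option maxRecDepth 100000

namespace CfsgLib.RuGroup

open CfsgLib.CosetEnum CfsgLib.RuLattice Cfsg.Spor

/-- two lattice vectors have Hermitian product zero -/
def HZero (v w : ruLattice) : Prop :=
  dot (v : RuVec) (w : RuVec) = 0 ∧ dot (v : RuVec) (ruI w : RuVec) = 0

theorem ruI_ruI (w : ruLattice) : (ruI (ruI w) : RuVec) = -(w : RuVec) := by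
  have e : ∀ u : ruLattice, (ruI u : RuVec) = gI • (u : RuVec) := fun u => rfl
  rw [e, e, smul_smul, show gI * gI = -1 by decide, neg_one_smul]

theorem dot_ruI (v w : ruLattice) : dot (ruI v : RuVec) (ruI w : RuVec) = dot (v : RuVec) (w : RuVec) := by
  rw [← genR_nine_apply, ← genR_nine_apply, ap_dot]

theorem HZero.symm {v w : ruLattice} (h : HZero v w) : HZero w v := by
  refine ⟨(dot_comm' _ _).trans h.1, ?_⟩
  rw [← dot_ruI, ruI_ruI, dot_neg_right, dot_comm', neg_eq_zero]
  exact h.2

theorem hzero_comm (v w : ruLattice) : HZero v w ↔ HZero w v := ⟨HZero.symm, HZero.symm⟩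

theorem hzero_ruI (v w : ruLattice) : HZero v (ruI w) ↔ HZero v w := by
  unfold HZero
  rw [ruI_ruI, dot_neg_right, neg_eq_zero]
  exact and_comm

theorem hzero_act (f : fourRu) (v w : ruLattice) : HZero (ap f v) (ap f w) ↔ HZero v w := by
  unfold HZero
  rw [← ap_I, ap_dot, ap_dot]

theorem pt_nine (k : Fin 16240) :
    pt ⟨img 9 k.val, img_lt (by norm_num) k.isLt⟩ = ruI (pt k) :=
  Subtype.ext ((lin_tVec (by norm_num) k.isLt).symm.trans (lin_nine _))

theorem orth_iff (a b : Fin 4060) :
    orth a.val b.val = true ↔ HZero (pt (repF a)) (pt (repF b)) := by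
  have key : ∀ r s : Fin 16240, Nat.beq (ipTot r.val s.val) (Nat.mul 2 (ipNeg r.val s.val)) = true ↔
      dot (pt r : RuVec) (pt s : RuVec) = 0 := fun r s => by
    rw [show (pt r : RuVec) = tVec r.val from rfl, show (pt s : RuVec) = tVec s.val from rfl, dot_tVec,
      ip_spec r.isLt s.isLt]
    constructor
    · intro h
      have e := congrArg (fun n : ℕ => (n : ℤ)) (Nat.eq_of_beq_eq_true h)
      simp only [Nat.mul_eq, Nat.cast_mul, Nat.cast_ofNat] at e
      omega
    · intro h
      have e : ipTot r.val s.val = 2 * ipNeg r.val s.val := by omega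
      simp only [Nat.mul_eq, e, Nat.beq_refl]
  simp only [orth, strict_eq, band_eq_true]
  rw [show repOf a.val = (repF a).val from rfl, show repOf b.val = (repF b).val from rfl]
  unfold HZero
  rw [← key, ← pt_nine]
  exact and_congr Iff.rfl (key _ ⟨_, img_lt (by norm_num) (repF b).isLt⟩)

theorem hzero_lineF (v : ruLattice) (k : Fin 16240) :
    HZero v (pt k) ↔ HZero v (pt (repF (lineF k))) := by
  obtain ⟨-, -, m, -, ek⟩ := line_at k.isLt
  have hk : k = ⟨imgI m (repF (lineF k)).val, imgI_lt (repF (lineF k)).isLt m⟩ := Fin.ext ek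
  clear ek
  generalize repF (lineF k) = r at hk ⊢
  subst hk
  induction m with
  | zero => exact Iff.rfl
  | succ m ih =>
    refine Iff.trans ?_ ih
    rw [← hzero_ruI v (pt ⟨imgI m r.val, _⟩), ← pt_nine]
    rfl

theorem orth_act {f : Equiv.Perm (Fin 4060)} (hf : f ∈ RuP) (a b : Fin 4060) :
    orth (f a).val (f b).val = orth a.val b.val := by
  obtain ⟨g, rfl⟩ := hf
  rw [Bool.eq_iff_iff, orth_iff, orth_iff]
  show HZero (pt (repF (lineF (vecAct g (repF a))))) (pt (repF (lineF (vecAct g (repF b))))) ↔ _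
  rw [← hzero_lineF, hzero_comm, ← hzero_lineF, hzero_comm, pt_vecAct, pt_vecAct, hzero_act]

/-- a word as an element of the group on the lines -/
noncomputable def el (w : List ℕ) : RuP := ⟨(w.map lineGen).prod, list_prod_mem fun x hx => by
  obtain ⟨g, -, rfl⟩ := List.mem_map.1 hx
  exact lineGen_mem g⟩

/-- small letters -/
def Small (w : List ℕ) : Prop := ∀ g ∈ w, g < 10

theorem el_nil : el [] = 1 := Subtype.ext (by simp [el])

theorem el_append (u w : List ℕ) : el (u ++ w) = el u * el w := Subtype.ext (by simp [el])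

theorem el_repWord (a : List ℕ) : ∀ t, el (repWord a t) = el a ^ t
  | 0 => by rw [pow_zero]; exact el_nil
  | t + 1 => by
    rw [show repWord a (t + 1) = a ++ repWord a t by simp [repWord, List.replicate_succ], el_append,
      el_repWord a t, ← pow_succ']

theorem small_repWord {a : List ℕ} (ha : Small a) (t : ℕ) : Small (repWord a t) := fun g hg => by
  simp only [repWord, List.mem_flatten, List.mem_replicate] at hg
  obtain ⟨l, ⟨-, rfl⟩, hl⟩ := hg
  exact ha g hl

theorem small_append {u w : List ℕ} (hu : Small u) (hw : Small w) : Small (u ++ w) := fun g hg =>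
  (List.mem_append.1 hg).elim (hu g) (hw g)

theorem small_nil : Small [] := fun g hg => by simp at hg

theorem small_V : Small wordV := fun g hg => by
  simp only [wordV, List.mem_singleton] at hg
  omega

theorem small_C : Small wordC := fun g hg => by
  have h := letters_ok
  simp only [outLetters, Bool.and_eq_true, List.all_eq_true, decide_eq_true_eq] at h
  exact h.1 g hg

theorem small_S : Small wordS := fun g hg => by
  have h := letters_ok
  simp only [outLetters, Bool.and_eq_true, List.all_eq_true, decide_eq_true_eq] at h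
  exact h.2 g hg

theorem small_T : Small wordT := small_repWord small_C 7

theorem el_val {w : List ℕ} (hw : Small w) (l : Fin 4060) :
    (((el w : RuP) : Equiv.Perm (Fin 4060)) l).val = wordImg w l.val := word_apply w hw l

/-- equality from the base points -/
theorem el_eq {u w : List ℕ} (hu : Small u) (hw : Small w) (h : sameBase u w = true) : el u = el w := by
  refine Subtype.ext ?_
  rw [← inv_mul_eq_one (G := Equiv.Perm (Fin 4060))]
  refine eq_one_of_pts full_facts.1 full_facts.2 full_card _ ?_ fun L hL hp => ?_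
  · rw [order_facts.2.2.2.2]
    exact mul_mem (inv_mem (el u).2) (el w).2
  · have e := Nat.eq_of_beq_eq_true (List.all_eq_true.1 h L hL)
    have e' : ((el u : RuP) : Equiv.Perm (Fin 4060)) ⟨L.pt, hp⟩ =
        ((el w : RuP) : Equiv.Perm (Fin 4060)) ⟨L.pt, hp⟩ :=
      Fin.ext (((el_val hu _).trans e).trans (el_val hw _).symm)
    rw [Equiv.Perm.mul_apply, ← e', ← Equiv.Perm.mul_apply, inv_mul_cancel]
    rfl

theorem el_ne {u w : List ℕ} (hu : Small u) (hw : Small w) (h : (!(sameBase u w)) = true) :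
    el u ≠ el w := fun e => by
  have hall : sameBase u w = true := List.all_eq_true.2 fun L hL => by
    have hp := pts_lt L hL
    have e1 := congrArg (fun x : RuP => ((x : Equiv.Perm (Fin 4060)) ⟨L.pt, hp⟩).val) e
    simp only [el_val hu, el_val hw] at e1
    rw [e1]
    exact Nat.beq_refl _
  rw [hall] at h
  exact Bool.noConfusion h

theorem allBelow_iff {f : ℕ → Bool} : ∀ {n}, allBelow f n = true ↔ ∀ i < n, f i = true
  | 0 => ⟨fun _ _ h => absurd h (Nat.not_lt_zero _), fun _ => rfl⟩
  | n + 1 => by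
    rw [show allBelow f (n + 1) = band (allBelow f n) (f n) from rfl, band_eq_true, allBelow_iff]
    exact ⟨fun h i hi => (Nat.lt_succ_iff_lt_or_eq.1 hi).elim (h.1 i) fun e => e ▸ h.2,
      fun h => ⟨fun i hi => h i (by omega), h n (by omega)⟩⟩

theorem wPow_eq {w : List ℕ} (hw : Small w) (l : Fin 4060) : ∀ i,
    (((el w ^ i : RuP) : Equiv.Perm (Fin 4060)) l).val = wPow w i l.val
  | 0 => rfl
  | i + 1 => by
    rw [pow_succ', Subgroup.coe_mul, Equiv.Perm.mul_apply, el_val hw, wPow_eq hw l i]
    rfl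

/-- commuting with a word passes to the powers of its images -/
theorem comm_wPow {w : List ℕ} (hw : Small w) {x : RuP} (hx : Commute x (el w)) (a : Fin 4060) (i : ℕ) :
    ((x : Equiv.Perm (Fin 4060)) (((el w ^ i : RuP) : Equiv.Perm (Fin 4060)) a)).val =
      wPow w i ((x : Equiv.Perm (Fin 4060)) a).val := by
  rw [← wPow_eq hw, ← Equiv.Perm.mul_apply, ← Equiv.Perm.mul_apply, ← Subgroup.coe_mul,
    ← Subgroup.coe_mul, (hx.pow_right i).eq]

theorem filt_of_comm {w : List ℕ} (hw : Small w) (n : ℕ) {x : RuP} (hx : Commute x (el w))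
    (a : Fin 4060) : filtOK w n a.val ((x : Equiv.Perm (Fin 4060)) a).val = true := by
  refine allBelow_iff.2 fun i _ => ?_
  rw [← comm_wPow hw hx, orth_act x.2, wPow_eq hw, beq_self_eq_true]

/-- the images of pairs -/
def MapsPairs (x : RuP) (d : List (ℕ × ℕ)) : Prop :=
  ∀ q ∈ d, ∃ z : Fin 4060, z.val = q.1 ∧ ((x : Equiv.Perm (Fin 4060)) z).val = q.2

theorem pairsMatch_of {x : RuP} (b : Fin 4060) : ∀ {d : List (ℕ × ℕ)}, MapsPairs x d →
    pairsMatch d b.val ((x : Equiv.Perm (Fin 4060)) b).val = true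
  | [], _ => rfl
  | q :: d, h => by
    obtain ⟨z, e1, e2⟩ := h q List.mem_cons_self
    show band _ (pairsMatch d b.val _) = true
    rw [band_eq_true, ← e1, ← e2, orth_act x.2, beq_self_eq_true]
    exact ⟨rfl, pairsMatch_of b fun r hr => h r (List.mem_cons_of_mem _ hr)⟩

theorem trace_spec {x : RuP} : ∀ {st d : List (ℕ × ℕ)}, traceOK d st = true → MapsPairs x d →
    MapsPairs x st
  | [], _, _, _ => fun q hq => by simp at hq
  | q :: st, d, h, hd => by
    change band (band (ltB q.1 4060) (allUp (stepOK d q.1 q.2) 12 0)) (traceOK (q :: d) st) = true at h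
    simp only [band_eq_true, ltB_iff] at h
    obtain ⟨⟨hq, hs⟩, ht⟩ := h
    have e : ((x : Equiv.Perm (Fin 4060)) ⟨q.1, hq⟩).val = q.2 := by
      by_contra hne
      have hlt := ((x : Equiv.Perm (Fin 4060)) ⟨q.1, hq⟩).isLt
      have h' := allUp_spec hs ((x : Equiv.Perm (Fin 4060)) ⟨q.1, hq⟩).val (Nat.zero_le _) (by omega)
      have h'' := pairsMatch_of (x := x) ⟨q.1, hq⟩ hd
      simp only [stepOK] at h'
      rw [show ltB _ (nat_lit 4060) = true from ltB_iff.mpr hlt, pick_true,
        show Nat.beq ((x : Equiv.Perm (Fin 4060)) ⟨q.1, hq⟩).val q.2 = false by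
          rw [Bool.eq_false_iff]; exact fun e => hne (Nat.eq_of_beq_eq_true e),
        pick_false, h'', pick_true] at h'
      exact Bool.noConfusion h'
    have hd' : MapsPairs x (q :: d) := fun r hr => by
      rcases List.mem_cons.1 hr with rfl | hr
      exacts [⟨⟨r.1, hq⟩, rfl, e⟩, hd r hr]
    intro r hr
    rcases List.mem_cons.1 hr with rfl | hr
    exacts [⟨⟨r.1, hq⟩, rfl, e⟩, trace_spec ht hd' r hr]

theorem ctrace_spec {w : List ℕ} (hw : Small w) {n p q : ℕ} {tr : List (ℕ × ℕ) × List (ℕ × ℕ)}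
    (h : cTraceOK w n p q tr = true) {x : RuP} (hx : Commute x (el w)) (hp : p < 4060)
    (hpq : ((x : Equiv.Perm (Fin 4060)) ⟨p, hp⟩).val = q) : MapsPairs x tr.2 := by
  simp only [cTraceOK, powPairsOK, band_eq_true, allBelow_iff] at h
  obtain ⟨⟨hlen, hd⟩, ht⟩ := h
  refine trace_spec ht fun r hr => ?_
  obtain ⟨i, hi, rfl⟩ := List.getElem_of_mem hr
  obtain ⟨e1, e2⟩ := hd i (by rw [← Nat.eq_of_beq_eq_true hlen]; exact hi)
  rw [List.getD_eq_getElem _ _ hi] at e1 e2
  refine ⟨((el w ^ i : RuP) : Equiv.Perm (Fin 4060)) ⟨p, hp⟩, ?_, ?_⟩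
  · rw [wPow_eq hw]; exact Nat.eq_of_beq_eq_true e1
  · rw [comm_wPow hw hx, hpq]; exact Nat.eq_of_beq_eq_true e2

theorem base_list : fullLevels.map Lev.pt = [0, 65, 2, 1] := rfl

theorem eq_one_of_trace {x : RuP} {st : List (ℕ × ℕ)} (h : MapsPairs x st)
    (hst : st = [(0, 0), (65, 65), (2, 2), (1, 1)]) : x = 1 := by
  refine Subtype.ext (eq_one_of_pts full_facts.1 full_facts.2 full_card _
    (by rw [order_facts.2.2.2.2]; exact x.2) fun L hL hp => ?_)
  have hm : L.pt ∈ fullLevels.map Lev.pt := List.mem_map_of_mem hL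
  rw [base_list] at hm
  obtain ⟨z, e1, e2⟩ := h (L.pt, L.pt) (by subst hst; simp at hm ⊢; exact hm)
  have : z = ⟨L.pt, hp⟩ := Fin.ext e1
  rw [this] at e2
  exact e2

theorem no_image {x : RuP} {st : List (ℕ × ℕ)} (h : MapsPairs x st) {b : ℕ}
    (hb : (b, 4060) ∈ st) : False := by
  obtain ⟨z, -, e⟩ := h _ hb
  have := ((x : Equiv.Perm (Fin 4060)) z).isLt
  omega

/-- the image of a point under a commuting element lies in a listed orbit -/
theorem image_cases {w : List ℕ} (hw : Small w) {m n p : ℕ} {reps : List ℕ}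
    (h : allUp (survOK w m n p reps) 12 0 = true) {x : RuP} (hx : Commute x (el w)) (hp : p < 4060) :
    ∃ r ∈ reps, ∃ j < n, wPow w j r = ((x : Equiv.Perm (Fin 4060)) ⟨p, hp⟩).val := by
  have hlt := ((x : Equiv.Perm (Fin 4060)) ⟨p, hp⟩).isLt
  have h' := allUp_spec h ((x : Equiv.Perm (Fin 4060)) ⟨p, hp⟩).val (Nat.zero_le _) (by omega)
  simp only [survOK] at h'
  rw [show ltB _ (nat_lit 4060) = true from ltB_iff.mpr hlt, pick_true,
    filt_of_comm hw m hx ⟨p, hp⟩, pick_true] at h'
  simp only [inOrbs, List.any_eq_true, List.mem_range] at h'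
  obtain ⟨r, hr, j, hj, e⟩ := h'
  exact ⟨r, hr, j, hj, Nat.eq_of_beq_eq_true e⟩

/-- undoing a power -/
theorem shift_back {w : List ℕ} (hw : Small w) {x : RuP} {p : Fin 4060} {j r : ℕ} (hr : r < 4060)
    (e : wPow w j r = ((x : Equiv.Perm (Fin 4060)) p).val) :
    ((((el w ^ j)⁻¹ * x : RuP) : Equiv.Perm (Fin 4060)) p).val = r := by
  have e' : ((el w ^ j : RuP) : Equiv.Perm (Fin 4060)) ⟨r, hr⟩ = (x : Equiv.Perm (Fin 4060)) p :=
    Fin.ext ((wPow_eq hw _ j).trans e)
  rw [Subgroup.coe_mul, Equiv.Perm.mul_apply, ← e', ← Equiv.Perm.mul_apply, ← Subgroup.coe_mul,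
    inv_mul_cancel]
  rfl

attribute [local irreducible] sameBase wordImg wPow cTraceOK

theorem cent_V {x : RuP} (hx : Commute x (el wordV)) : ∃ j : ℕ, x = el wordV ^ j := by
  obtain ⟨r, hr, j, -, e⟩ := image_cases small_V survV hx (show 0 < 4060 by norm_num)
  have hr' : r < 4060 := by
    simp only [List.mem_cons, List.not_mem_nil, or_false] at hr
    omega
  have hy : Commute ((el wordV ^ j)⁻¹ * x) (el wordV) :=
    (((Commute.refl (el wordV)).pow_left j).inv_left).mul_left hx
  have hy0 := shift_back small_V hr' e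
  simp only [List.mem_cons, List.not_mem_nil, or_false] at hr
  rcases hr with rfl | rfl
  · have h1 := eq_one_of_trace (ctrace_spec small_V traceV_fix hy (by norm_num) hy0) rfl
    exact ⟨j, (inv_mul_eq_one.1 h1).symm⟩
  · exact (no_image (ctrace_spec small_V traceV_none hy (by norm_num) hy0) (b := 65) (by decide)).elim

theorem comm_C_S : Commute (el wordS) (el wordC) := by
  have h := words_ok
  simp only [wordsOK, band_eq_true] at h
  have := el_eq (small_append small_C small_S) (small_append small_S small_C) h.2.2.1.1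
  rw [el_append, el_append] at this
  exact this.symm

theorem cent_C {x : RuP} (hx : Commute x (el wordC)) :
    ∃ j < 14, ∃ u ∈ [[], wordS], x = el (repWord wordC j ++ u) := by
  obtain ⟨r, hr, j, hj, e⟩ := image_cases small_C survC hx (show 5 < 4060 by norm_num)
  have hr' : r < 4060 := by
    simp only [List.mem_cons, List.not_mem_nil, or_false] at hr
    omega
  have hy : Commute ((el wordC ^ j)⁻¹ * x) (el wordC) :=
    (((Commute.refl (el wordC)).pow_left j).inv_left).mul_left hx
  have hy0 := shift_back small_C hr' e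
  simp only [List.mem_cons, List.not_mem_nil, or_false] at hr
  rcases hr with rfl | rfl | rfl | rfl
  · have h1 := eq_one_of_trace (ctrace_spec small_C traceC_fix hy (by norm_num) hy0) rfl
    refine ⟨j, hj, [], by simp, ?_⟩
    rw [List.append_nil, el_repWord]
    exact (inv_mul_eq_one.1 h1).symm
  · set y := (el wordC ^ j)⁻¹ * x with hy'
    have hz : Commute ((el wordS)⁻¹ * y) (el wordC) := comm_C_S.inv_left.mul_left hy
    have hz0 : ((((el wordS)⁻¹ * y : RuP) : Equiv.Perm (Fin 4060)) ⟨5, by norm_num⟩).val = 5 := by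
      have hS : ((el wordS : RuP) : Equiv.Perm (Fin 4060)) ⟨5, by norm_num⟩ =
          (y : Equiv.Perm (Fin 4060)) ⟨5, by norm_num⟩ :=
        Fin.ext (by rw [el_val small_S, hy0]; exact wordS_at)
      rw [Subgroup.coe_mul, Equiv.Perm.mul_apply, ← hS, ← Equiv.Perm.mul_apply, ← Subgroup.coe_mul,
        inv_mul_cancel]
      rfl
    have h1 := inv_mul_eq_one.1 (eq_one_of_trace (ctrace_spec small_C traceC_fix hz (by norm_num) hz0) rfl)
    refine ⟨j, hj, wordS, by simp, ?_⟩
    rw [el_append, el_repWord, h1, hy', mul_inv_cancel_left]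
  · exact (no_image (ctrace_spec small_C traceC_noneA hy (by norm_num) hy0) (b := 65) (by decide)).elim
  · exact (no_image (ctrace_spec small_C traceC_noneB hy (by norm_num) hy0) (b := 65) (by decide)).elim

end CfsgLib.RuGroup
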