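import Cfsg.Prelude.Def_KGroupFacts
import Cfsg.Agent.Lib.RuGroup.OutCent
import Cfsg.Agent.Lib.RuGroup.CheckMult
import Cfsg.Agent.Lib.RuGroup.CheckRelators
import Cfsg.Agent.Lib.RuGroup.CheckTabP
import Cfsg.Agent.Lib.RuGroup.CheckKeys0
import Cfsg.Agent.Lib.RuGroup.CheckKeys1
import Cfsg.Agent.Lib.RuGroup.CheckKeys2
import Cfsg.Agent.Lib.RuGroup.CheckKeys3
import Cfsg.Agent.Lib.Schur.CosetLift
import Cfsg.Agent.Lib.Schur.OrderTwo
import Cfsg.Agent.Lib.Schur.ExtraPrime
import Cfsg.Agent.Lib.Golay.Mult.Odd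

/-!
A stem extension of the Rudvalis group on the lines has a kernel of order at most two.
-/

set_option autoImplicit false
set_option maxRecDepth 100000
set_option linter.style.haveILetI false

open scoped commutatorElement

namespace CfsgLib.RuGroup

open CfsgLib.CosetEnum CfsgLib.Schur CfsgLib.Schur.InvolLift CfsgLib.Schur.InvTable

attribute [local irreducible] sameBase wordImg keyW el

theorem small_of {w : List ℕ} (h : small10 w = true) : Small w := fun g hg => by
  simp only [small10, List.all_eq_true] at h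
  simpa using h g hg

/-- a generator of the tables -/
noncomputable def gW (j : ℕ) : RuP := el (mGens.getD j [])

theorem mGens_small (j : ℕ) : Small (mGens.getD j []) := by
  have h := gen_ok'
  simp only [genOK, Bool.and_eq_true, List.all_eq_true] at h
  rcases Nat.lt_or_ge j mGens.length with hj | hj
  · rw [List.getD_eq_getElem _ _ hj]
    exact small_of (h.1.1.1.1.1.1 _ (List.getElem_mem hj))
  · rw [List.getD_eq_default _ _ hj]
    exact small_nil

theorem mRep_small (c : ℕ) : Small (mRep c) := by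
  have h := gen_ok'
  simp only [genOK, Bool.and_eq_true, List.all_eq_true] at h
  unfold mRep
  rcases Nat.lt_or_ge c mReps.length with hj | hj
  · rw [List.getD_eq_getElem _ _ hj]
    exact small_of (h.1.1.1.1.1.2 _ (List.getElem_mem hj))
  · rw [List.getD_eq_default _ _ hj]
    exact small_nil

theorem small_mExp : ∀ w, Small (mExp w)
  | [] => small_nil
  | j :: w => small_append (mGens_small j) (small_mExp w)

theorem el_mExp : ∀ w, el (mExp w) = (w.map gW).prod
  | [] => el_nil
  | j :: w => by
    rw [show mExp (j :: w) = mGens.getD j [] ++ mExp w from rfl, el_append, el_mExp w, List.map_cons,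
      List.prod_cons]
    rfl

theorem rep_sq (c : ℕ) (hc : c < 2) : el (mRep c) * el (mRep c) = 1 := by
  have h := gen_ok'
  simp only [genOK, Bool.and_eq_true] at h
  rw [← el_append, ← el_nil]
  rcases (show c = 0 ∨ c = 1 by omega) with rfl | rfl
  · exact el_eq (small_append (mRep_small 0) (mRep_small 0)) small_nil h.1.1.2
  · exact el_eq (small_append (mRep_small 1) (mRep_small 1)) small_nil h.1.2

theorem classW_spec {x : ℕ × List ℕ} {v : List ℕ} (h : classW x v = true) :
    x.1 < 2 ∧ Small v ∧ el x.2 * el v = el (mRep x.1) * el x.2 ∧ el v * el v = 1 := by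
  simp only [classW, band_eq_true, Nat.blt_eq] at h
  obtain ⟨⟨h1, h2, h3⟩, h4⟩ := h
  have he : el x.2 * el v = el (mRep x.1) * el x.2 := by
    rw [← el_append, ← el_append]
    exact el_eq (small_append (small_of h2) (small_of h3)) (small_append (mRep_small _) (small_of h2)) h4
  refine ⟨h1, small_of h3, he, ?_⟩
  rw [show el v = (el x.2)⁻¹ * el (mRep x.1) * el x.2 by rw [mul_assoc, ← he, inv_mul_cancel_left],
    show (el x.2)⁻¹ * el (mRep x.1) * el x.2 * ((el x.2)⁻¹ * el (mRep x.1) * el x.2) =
      (el x.2)⁻¹ * (el (mRep x.1) * el (mRep x.1)) * el x.2 by group, rep_sq _ h1, mul_one,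
    inv_mul_cancel]

section
variable {E : Type} [Group E] {τ : E →* RuP}

theorem q_class (D : Double τ) {x : ℕ × List ℕ} {v : List ℕ} (h : classW x v = true) :
    D.q (el v) = D.q (el (mRep x.1)) := by
  obtain ⟨-, -, he, h2⟩ := classW_spec h
  exact (D.q_conj he h2).symm

theorem q_first (D : Double τ) : D.q (el (mRep 0)) = 1 := by
  have h := seven_w
  simp only [sevenW, Bool.and_eq_true, List.all_cons, List.all_nil, Bool.and_true] at h
  obtain ⟨⟨⟨⟨⟨⟨⟨⟨⟨⟨⟨su, sv, sw⟩, huv⟩, huw⟩, hvw⟩, k0⟩, k1⟩, k2⟩, k3⟩, k4⟩, k5⟩, k6⟩ := h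
  have hc : ∀ {a b : List ℕ}, small10 a = true → small10 b = true → sameBase (b ++ a) (a ++ b) = true →
      el b * el a = el a * el b := fun {a b} ha hb e => by
    rw [← el_append, ← el_append]
    exact el_eq (small_append (small_of hb) (small_of ha)) (small_append (small_of ha) (small_of hb)) e
  have h7 := D.q_seven (classW_spec k4).2.2.2 (classW_spec k5).2.2.2 (classW_spec k6).2.2.2
    (hc su sv huv) (hc su sw huw) (hc sv sw hvw)
  simp only [← el_append] at h7
  rw [q_class D k0, q_class D k1, q_class D k2, q_class D k3, q_class D k4, q_class D k5,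
    q_class D k6] at h7
  have hqq : D.q (el (mRep 0)) * D.q (el (mRep 0)) = 1 := D.sq (D.q_mem_ker (rep_sq 0 (by norm_num)))
  simp only [hqq, one_mul] at h7
  exact h7

theorem q_all (D : Double τ) (hB : SqOne τ (el (mRep 1))) {x : ℕ × List ℕ} {v : List ℕ}
    (h : classW x v = true) : el v * el v = 1 ∧ SqOne τ (el v) := by
  obtain ⟨hx, -, -, h2⟩ := classW_spec h
  refine ⟨h2, D.sqOne_iff.2 ((q_class D h).trans ?_)⟩
  rcases (show x.1 = 0 ∨ x.1 = 1 by omega) with e | e <;> rw [e]
  exacts [q_first D, D.sqOne_iff.1 hB]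

theorem gen_class (j : ℕ) (hj : j < 5) : classW (mGenWhy.getD j (2, [])) (mGens.getD j []) = true := by
  have h := gen_ok'
  simp only [genOK, Bool.and_eq_true, List.all_eq_true, List.mem_range] at h
  exact (h.2 j hj).1

theorem gen_def (j : ℕ) (hj : j < 5) (hne : (mDefs.getD j []).isEmpty = false) :
    el (mExp (mDefs.getD j [])) = gW j ∧
      ∀ i ∈ mDefs.getD j [], i < 5 ∧ (mDefs.getD i []).isEmpty = true := by
  have h := gen_ok'
  simp only [genOK, Bool.and_eq_true, List.all_eq_true, List.mem_range, Bool.or_eq_true, Nat.blt_eq] at h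
  rcases (h.2 j hj).2 with e | ⟨e, hall⟩
  · rw [hne] at e; exact Bool.noConfusion e
  · exact ⟨el_eq (small_mExp _) (mGens_small j) e, hall⟩

theorem mDefs_default : ∀ j, 5 ≤ j → (mDefs.getD j []).isEmpty = true := by
  intro j hj
  rw [List.getD_eq_default _ _ (by simpa [mDefs] using hj)]
  rfl

/-- lifts of the generators, the defined ones following their definitions -/
noncomputable def liftG (D : Double τ) (j : ℕ) : E :=
  if (mDefs.getD j []).isEmpty then (D.surj (gW j)).choose
  else ((mDefs.getD j []).map fun i => (D.surj (gW i)).choose).prod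

theorem tau_liftG (D : Double τ) (j : ℕ) : τ (liftG D j) = gW j := by
  unfold liftG
  cases h : (mDefs.getD j []).isEmpty
  · rw [if_neg (by simp)]
    have hj : j < 5 := by
      by_contra hc
      rw [mDefs_default j (by omega)] at h
      exact Bool.noConfusion h
    rw [← (gen_def j hj h).1, map_list_prod, List.map_map, el_mExp]
    exact congrArg List.prod (List.map_congr_left fun i _ => (D.surj (gW i)).choose_spec)
  · rw [if_pos rfl]
    exact (D.surj (gW j)).choose_spec

theorem tau_word (D : Double τ) (v : List ℕ) : τ (v.map (liftG D)).prod = el (mExp v) := by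
  rw [el_mExp, map_list_prod, List.map_map]
  exact congrArg List.prod (List.map_congr_left fun i _ => tau_liftG D i)

theorem lift_sq (D : Double τ) (hB : SqOne τ (el (mRep 1))) {j : ℕ} (hj : j < 5) :
    liftG D j * liftG D j = 1 :=
  (q_all D hB (gen_class j hj)).2 _ (tau_liftG D j)

theorem lift_rev (D : Double τ) (hB : SqOne τ (el (mRep 1))) : ∀ v : List ℕ, (∀ j ∈ v, j < 5) →
    (v.reverse.map (liftG D)).prod = ((v.map (liftG D)).prod)⁻¹
  | [], _ => by simp
  | j :: v, hv => by
    rw [List.reverse_cons, List.map_append, List.prod_append,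
      lift_rev D hB v fun i hi => hv i (List.mem_cons_of_mem _ hi), List.map_cons, List.map_nil,
      List.prod_singleton, List.map_cons, List.prod_cons, mul_inv_rev,
      inv_eq_of_mul_eq_one_right (lift_sq D hB (hv j List.mem_cons_self))]

theorem small_flatten {ts : List (List ℕ × (ℕ × List ℕ) × (ℕ × List ℕ))}
    (h : ∀ t ∈ ts, Small t.1) : Small (ts.flatMap fun t => t.1) := fun g hg => by
  obtain ⟨t, ht, hgt⟩ := List.mem_flatMap.1 hg
  exact h t ht g hgt

theorem el_flatten : ∀ ts : List (List ℕ × (ℕ × List ℕ) × (ℕ × List ℕ)),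
    el (ts.flatMap fun t => t.1) = (ts.map fun t => el t.1).prod
  | [] => el_nil
  | t :: ts => by rw [List.flatMap_cons, el_append, el_flatten ts, List.map_cons, List.prod_cons]

theorem why_spec (D : Double τ) (hB : SqOne τ (el (mRep 1))) {w : List ℕ} {y : Why}
    (h : whyOK w y = true) : (w.map (liftG D)).prod = 1 := by
  cases y with
  | defn =>
    simp only [whyOK, Bool.and_eq_true, Bool.not_eq_true', beq_iff_eq, Nat.blt_eq] at h
    obtain ⟨⟨⟨-, hw⟩, hj⟩, hne⟩ := h
    set j := w.headD 0
    rw [hw, List.map_cons, List.prod_cons]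
    have e : ((mDefs.getD j []).map (liftG D)).prod = liftG D j := by
      conv_rhs => rw [liftG, hne, if_neg (by simp)]
      refine congrArg List.prod (List.map_congr_left fun i hi => ?_)
      rw [liftG, ((gen_def j hj hne).2 i hi).2, if_pos rfl]
    rw [e]
    exact lift_sq D hB hj
  | sq x =>
    simp only [whyOK, Bool.and_eq_true, beq_iff_eq] at h
    rw [h.1, List.map_append, List.prod_append]
    exact (q_all D hB h.2).2 _ (tau_word D _)
  | comm la x ts =>
    simp only [whyOK, Bool.and_eq_true, beq_iff_eq, List.all_eq_true, Nat.blt_eq] at h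
    obtain ⟨⟨⟨⟨hw, hlt⟩, hb⟩, hts⟩, hall⟩ := h
    set a := w.take la
    set b := (w.take (w.length / 2)).drop la
    have hlta : ∀ j ∈ a, j < 5 := fun j hj => hlt j (List.mem_of_mem_take hj)
    have hltb : ∀ j ∈ b, j < 5 := fun j hj => hlt j (List.mem_of_mem_take (List.mem_of_mem_drop hj))
    have hBB : (b.map (liftG D)).prod * (b.map (liftG D)).prod = 1 :=
      (q_all D hB hb).2 _ (tau_word D b)
    set B := (b.map (liftG D)).prod
    choose S hS using fun t : List ℕ => D.surj (el t)
    have hSB : ∀ t ∈ ts, Commute (S t.1) B := by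
      intro t ht
      obtain ⟨⟨h1, h2⟩, -⟩ := hall t ht
      have e1 : S t.1 * S t.1 = 1 := (q_all D hB h1).2 _ (hS _)
      have e2 : S t.1 * B * (S t.1 * B) = 1 :=
        (q_all D hB h2).2 _ (by rw [map_mul, hS, tau_word, el_append])
      calc S t.1 * B = (S t.1 * B)⁻¹ := eq_inv_of_mul_eq_one_left e2
        _ = B * S t.1 := by
          rw [mul_inv_rev, inv_eq_of_mul_eq_one_right hBB, inv_eq_of_mul_eq_one_right e1]
    set A' := (ts.map fun t => S t.1).prod
    have hk : A'⁻¹ * (a.map (liftG D)).prod ∈ τ.ker := by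
      rw [MonoidHom.mem_ker, map_mul, map_inv, tau_word, map_list_prod, List.map_map, inv_mul_eq_one]
      rw [show (τ ∘ fun t : List ℕ × (ℕ × List ℕ) × (ℕ × List ℕ) => S t.1) = fun t => el t.1 from
        funext fun t => hS t.1, ← el_flatten]
      exact el_eq (small_flatten fun t ht => (classW_spec (hall t ht).1.1).2.1) (small_mExp a) hts
    have hcA : Commute A' B := Commute.list_prod_left _ _ fun s hs => by
      obtain ⟨t, ht, rfl⟩ := List.mem_map.1 hs
      exact hSB t ht
    have hcomm : Commute (a.map (liftG D)).prod B := by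
      rw [show (a.map (liftG D)).prod = A' * (A'⁻¹ * (a.map (liftG D)).prod) by
        rw [mul_inv_cancel_left]]
      exact hcA.mul_left (D.comm hk B).symm
    rw [hw, List.map_append, List.map_append, List.map_append, List.prod_append, List.prod_append,
      List.prod_append, lift_rev D hB a hlta, lift_rev D hB b hltb, hcomm.eq]
    simp only [B]
    group

end

theorem words_spec {T : Tab} {ws : List Why} (h : whysOK T ws = true) {w : List ℕ} (hw : w ∈ T.words) :
    ∃ y, whyOK w y = true := by
  simp only [whysOK, Bool.and_eq_true, List.all_eq_true] at h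
  obtain ⟨i, hi, rfl⟩ := List.getElem_of_mem hw
  have hlen := Nat.eq_of_beq_eq_true h.1
  exact ⟨ws[i]'(by omega), h.2 (T.words[i], ws[i]'(by omega))
    (List.mem_iff_getElem.2 ⟨i, by simp [List.length_zip]; omega, by simp⟩)⟩

theorem keyRow_all (t : ℕ) (ht : t < 2048) : keyRow t = true := by
  by_cases h0 : t < 512
  · exact allUp_spec keyRows0 t (by omega) (by norm_num; omega)
  by_cases h1 : t < 1024
  · exact allUp_spec keyRows1 t (by omega) (by norm_num; omega)
  by_cases h2 : t < 1536
  · exact allUp_spec keyRows2 t (by omega) (by norm_num; omega)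
  exact allUp_spec keyRows3 t (by omega) (by norm_num; omega)

theorem keyComp_eq (key : ℕ) (i : ℕ) : keyComp key i = key / 2 ^ (12 * i) % 4096 := by
  show (key >>> (12 * i)) % 4096 = _
  rw [Nat.shiftRight_eq_div_pow]

theorem keyComp_W (w : List ℕ) (hw : Small w) :
    keyComp (keyW w) 0 = wordImg w 0 ∧ keyComp (keyW w) 1 = wordImg w 65 ∧
      keyComp (keyW w) 2 = wordImg w 2 ∧ keyComp (keyW w) 3 = wordImg w 1 := by
  have b : ∀ p, p < 4060 → wordImg w p < 4060 := fun p hp => by
    rw [← el_val hw ⟨p, hp⟩]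
    exact Fin.isLt _
  have b0 := b 0 (by norm_num)
  have b1 := b 65 (by norm_num)
  have b2 := b 2 (by norm_num)
  have b3 := b 1 (by norm_num)
  simp only [keyComp_eq]
  have e : keyW w = wordImg w 0 + (4096 * wordImg w 65 + (16777216 * wordImg w 2 +
      68719476736 * wordImg w 1)) := by with_unfolding_all rfl
  rw [e]
  norm_num
  omega

/-- the element of the subgroup with a given number -/
noncomputable def phiP (t : ℕ) : RuP := mTabP.phi gW t

theorem phiP_key : ∀ t < 2048, ∀ i, i < 4 → ∀ hp : [0, 65, 2, 1].getD i 0 < 4060,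
    (((phiP t : RuP) : Equiv.Perm (Fin 4060)) ⟨[0, 65, 2, 1].getD i 0, hp⟩).val =
      keyComp (mKeys.at' 48 t) i := by
  intro t
  induction t using Nat.strong_induction_on with
  | _ t ih =>
    intro ht i hi hp
    have h := keyRow_all t ht
    simp only [keyRow, strict_eq, band_eq_true] at h
    have h2 := h.2
    rcases t with _ | n
    · rw [show Nat.beq 0 0 = true from rfl, pick_true] at h2
      rw [Nat.eq_of_beq_eq_true h2]
      obtain ⟨k0, k1, k2, k3⟩ := keyComp_W [] small_nil
      have e : ∀ p, wordImg [] p = p := fun p => by with_unfolding_all rfl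
      rw [phiP, Tab.phi_zero]
      interval_cases i <;> simp_all
    · rw [show Nat.beq (n + 1) 0 = false from rfl, pick_false, band_eq_true, ltB_iff] at h2
      obtain ⟨hlt, hrow⟩ := h2
      simp only [band_eq_true] at hrow
      obtain ⟨⟨r0, r1⟩, r2, r3, -⟩ := hrow
      have htree : mTabP.tree.getD n (0, 0) =
          (mPar.at' 16 (n + 1) % 8, mPar.at' 16 (n + 1) / 8) := by
        have hp' := par_ok
        simp only [parOK, strict_eq, beq_iff_eq] at hp'
        rw [← hp', List.getD_eq_getElem _ _ (by simp; omega)]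
        simp
      set e := mPar.at' 16 (n + 1)
      have hlt' : e / 8 < n + 1 := hlt
      rw [phiP, Tab.phi, if_pos ⟨Nat.succ_pos n, by simp only [Nat.add_sub_cancel]; rw [htree]; exact hlt'⟩]
      simp only [Nat.add_sub_cancel, htree]
      rw [Subgroup.coe_mul, Equiv.Perm.mul_apply, gW, el_val (mGens_small _)]
      rw [show ((mTabP.phi gW (e / 8) : RuP) : Equiv.Perm (Fin 4060)) = ((phiP (e / 8) : RuP) : _) from rfl,
        ih _ hlt' (by omega) i hi hp]
      interval_cases i
      · exact Nat.eq_of_beq_eq_true r0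
      · exact Nat.eq_of_beq_eq_true r1
      · exact Nat.eq_of_beq_eq_true r2
      · exact Nat.eq_of_beq_eq_true r3

theorem key_inj {s t : ℕ} (hs : s < 2048) (ht : t < 2048) (e : mKeys.at' 48 s = mKeys.at' 48 t) :
    s = t := by
  have hrow : ∀ r < 2048, mSrt.at' 11 (mRank.at' 11 r) = r ∧ mRank.at' 11 r < 2048 ∧
      (r + 1 < 2048 → mKeys.at' 48 (mSrt.at' 11 r) < mKeys.at' 48 (mSrt.at' 11 (r + 1))) := by
    intro r hr
    have h := keyRow_all r hr
    simp only [keyRow, strict_eq, band_eq_true, ltB_iff] at h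
    refine ⟨Nat.eq_of_beq_eq_true h.1.1.1, h.1.1.2, fun hr' => ?_⟩
    have h' := h.1.2
    rw [show Nat.beq r 2047 = false from Bool.eq_false_iff.mpr fun e => by
      have := Nat.eq_of_beq_eq_true e; omega, pick_false] at h'
    exact ltB_iff.mp h'
  have hlt : ∀ b a, a < b → b < 2048 →
      mKeys.at' 48 (mSrt.at' 11 a) < mKeys.at' 48 (mSrt.at' 11 b) := by
    intro b
    induction b with
    | zero => intro a ha; omega
    | succ b ih =>
      intro a ha hb
      have h := (hrow b (by omega)).2.2 hb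
      rcases Nat.lt_or_ge a b with hab | hab
      · exact lt_trans (ih a hab (by omega)) h
      · rwa [show a = b by omega]
  obtain ⟨ss, rs, -⟩ := hrow s hs
  obtain ⟨st, rt, -⟩ := hrow t ht
  rcases Nat.lt_trichotomy (mRank.at' 11 s) (mRank.at' 11 t) with h | h | h
  · have := hlt _ _ h rt; rw [ss, st] at this; omega
  · rw [← ss, h, st]
  · have := hlt _ _ h rs; rw [ss, st] at this; omega

theorem key_bound {t : ℕ} (ht : t < 2048) : mKeys.at' 48 t < 281474976710656 := by
  have := at_lt mKeys 48 t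
  norm_num at this ⊢
  exact this

theorem key_of_comp {a b : ℕ} (ha : a < 281474976710656) (hb : b < 281474976710656)
    (h : ∀ i < 4, keyComp a i = keyComp b i) : a = b := by
  have h0 := h 0 (by norm_num)
  have h1 := h 1 (by norm_num)
  have h2 := h 2 (by norm_num)
  have h3 := h 3 (by norm_num)
  simp only [keyComp_eq] at h0 h1 h2 h3
  norm_num at h0 h1 h2 h3
  omega

theorem base_lt : ∀ i, [0, 65, 2, 1].getD i 0 < 4060 := by
  intro i
  rcases i with _ | _ | _ | _ | i <;> simp

theorem phiP_inj {s t : ℕ} (hs : s < 2048) (ht : t < 2048) (e : phiP s = phiP t) : s = t :=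
  key_inj hs ht (key_of_comp (key_bound hs) (key_bound ht) fun i hi => by
    rw [← phiP_key s hs i hi (base_lt i), ← phiP_key t ht i hi (base_lt i), e])

theorem phiT_word : ∀ i < 8, mTabT.phi gW i = el (mExp (tWord i)) := by
  have h := tpath_ok
  simp only [tPathOK, Bool.and_eq_true, List.all_eq_true, List.mem_range, Nat.blt_eq, beq_iff_eq] at h
  obtain ⟨⟨-, h0⟩, h⟩ := h
  intro i
  induction i using Nat.strong_induction_on with
  | _ i ih =>
    intro hi
    rcases i with _ | n
    · rw [Tab.phi_zero, h0]; exact el_nil.symm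
    · obtain ⟨⟨hp, -⟩, e⟩ := h n (by omega)
      rw [Tab.phi, if_pos ⟨Nat.succ_pos n, by simpa using hp⟩]
      simp only [Nat.add_sub_cancel]
      rw [ih _ hp (by omega), e, el_mExp, el_mExp, List.map_cons, List.prod_cons]

theorem cosets_distinct {i i' l : ℕ} (hi : i < 8) (hi' : i' < 8) (hl : l < 2048)
    (e : mTabT.phi gW i = mTabT.phi gW i' * phiP l) : i = i' := by
  by_contra hne
  have h := tinv_ok
  simp only [tInvOK, Bool.and_eq_true, List.all_eq_true, List.mem_range] at h
  obtain ⟨hs, hinv⟩ := h i' hi'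
  set u := mTInv.getD i' []
  have hu : el u * el (mExp (tWord i')) = 1 := by
    rw [← el_append, el_eq (small_append (small_of hs) (small_mExp _)) small_nil hinv, el_nil]
  rw [phiT_word i hi, phiT_word i' hi'] at e
  have e2 : phiP l = el (u ++ mExp (tWord i)) := by
    rw [el_append, e, ← mul_assoc, hu, one_mul]
  have hsep := sep_ok
  simp only [List.all_eq_true, List.mem_range] at hsep
  have h' := hsep i hi i' hi'
  simp only [sepOK, strict_eq] at h'
  rw [show Nat.beq i i' = false from Bool.eq_false_iff.mpr fun e => hne (Nat.eq_of_beq_eq_true e),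
    pick_false] at h'
  have h'' := allUp_spec h' l (Nat.zero_le _) (by omega)
  have hsm : Small (u ++ mExp (tWord i)) := small_append (small_of hs) (small_mExp _)
  have hkW : keyW (u ++ mExp (tWord i)) < 281474976710656 := by
    have b : ∀ p, p < 4060 → wordImg (u ++ mExp (tWord i)) p < 4060 := fun p hp => by
      rw [← el_val hsm ⟨p, hp⟩]
      exact Fin.isLt _
    have b0 := b 0 (by norm_num)
    have b1 := b 65 (by norm_num)
    have b2 := b 2 (by norm_num)
    have b3 := b 1 (by norm_num)
    have e : keyW (u ++ mExp (tWord i)) = wordImg (u ++ mExp (tWord i)) 0 +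
        (4096 * wordImg (u ++ mExp (tWord i)) 65 + (16777216 * wordImg (u ++ mExp (tWord i)) 2 +
        68719476736 * wordImg (u ++ mExp (tWord i)) 1)) := by with_unfolding_all rfl
    rw [e]
    omega
  have hkey : mKeys.at' 48 l = keyW (u ++ mExp (tWord i)) := by
    refine key_of_comp (key_bound hl) hkW fun k hk => ?_
    rw [← phiP_key l hl k hk (base_lt k), e2, el_val hsm]
    obtain ⟨c0, c1, c2, c3⟩ := keyComp_W _ hsm
    interval_cases k <;> simp_all
  rw [hkey, show Nat.beq (keyW (u ++ mExp (tWord i))) (keyW (u ++ mExp (tWord i))) = true from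
    Nat.beq_refl _, pick_true] at h''
  exact Bool.noConfusion h''

theorem tab_sizes : mTabP.N = 2048 ∧ mTabT.N = 8 ∧ mTabP.k = 4 ∧ mTabT.k = 5 :=
  ⟨rfl, rfl, rfl, rfl⟩

theorem no_double_ru (E : Type) [Group E] [Finite E] (τ : E →* RuP) (hτ : Cfsg.IsStemExtension τ)
    (h2 : Nat.card τ.ker = 2) (hB : SqOne τ (el (mRep 1))) : False := by
  obtain ⟨hPN, hTN, -, hTk⟩ := tab_sizes
  have D := double_of_card_two hτ h2
  have hwE : ∀ w ∈ mTabP.words ++ mTabT.words, (w.map (liftG D)).prod = 1 := by
    intro w hw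
    rcases List.mem_append.1 hw with h | h
    · exact (words_spec whyP_ok h).elim fun y hy => why_spec D hB hy
    · exact (words_spec whyT_ok h).elim fun y hy => why_spec D hB hy
  have hwG : ∀ w ∈ mTabP.words ++ mTabT.words, (w.map gW).prod = 1 := fun w hw => by
    rw [← el_mExp, ← tau_word D, hwE w hw, map_one]
  refine no_double_of_lift hτ h2 mTabP mTabT gW tabP_ok tabT_ok
    (fun j hj => (classW_spec (gen_class j (by omega))).2.2.2) hwG (liftG D) (tau_liftG D)
    (fun j hj => lift_sq D hB (by omega)) hwE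
    (fun l l' hl hl' e => phiP_inj (by omega) (by omega) e)
    (fun i i' l hi hi' hl e => cosets_distinct (by omega) (by omega) (by omega) e) ?_
  intro m hm
  rw [order_facts.2.1, hPN, hTN] at hm
  omega

theorem odd_witness {l i i' : ℕ} {d : List (List ℕ)} (hl : l.Prime) (h : oddW l d i i' = true)
    (hi : i % l ≠ 1) (hi' : i' % l ≠ 1) (hmax : ¬ l ^ 4 ∣ Nat.card RuP) :
    ∃ U : Subgroup RuP, ¬ l ∣ U.index ∧
      ∀ (Γ : Type) [Group Γ] [Finite Γ] (σ : Γ →* RuP), Function.Surjective σ →
        σ.ker ≤ Subgroup.center Γ → ∀ z ∈ σ.ker, z ∈ ⁅U.comap σ, U.comap σ⁆ → z ^ l = 1 → z = 1 := by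
  simp only [oddW, Bool.and_eq_true, Bool.not_eq_true'] at h
  obtain ⟨⟨⟨⟨⟨⟨⟨⟨⟨⟨⟨hs, hcd⟩, hx⟩, hy⟩, hc⟩, hxc⟩, hyc⟩, hne⟩, hgx⟩, hgc⟩, hhy⟩, hhc⟩ := h
  have sm : ∀ k, Small (d.getD k []) := fun k => by
    rw [List.all_eq_true] at hs
    rcases Nat.lt_or_ge k d.length with hk | hk
    · rw [List.getD_eq_getElem _ _ hk]; exact small_of (hs _ (List.getElem_mem hk))
    · rw [List.getD_eq_default _ _ hk]; exact small_nil
  set x := d.getD 0 [] with hxd
  set y := d.getD 1 [] with hyd
  set c := d.getD 2 [] with hcdd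
  set g := d.getD 3 [] with hgd
  set g' := d.getD 4 [] with hgd'
  have eq2 : ∀ {a b a' b' : List ℕ}, Small a → Small b → Small a' → Small b' →
      sameBase (a ++ b) (a' ++ b') = true → el a * el b = el a' * el b' :=
    fun {a b a' b'} h1 h2 h3 h4 e => by
      rw [← el_append, ← el_append]; exact el_eq (small_append h1 h2) (small_append h3 h4) e
  have epow : ∀ {a : List ℕ}, Small a → sameBase (repWord a l) [] = true → el a ^ l = 1 :=
    fun {a} ha e => by rw [← el_repWord, el_eq (small_repWord ha l) small_nil e, el_nil]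
  have hcd' : el x * el y = el c * (el y * el x) := by
    rw [← el_append y x]
    exact eq2 (sm 0) (sm 1) (sm 2) (small_append (sm 1) (sm 0)) hcd
  have hcx := eq2 (sm 0) (sm 2) (sm 2) (sm 0) hxc
  have hcy := eq2 (sm 1) (sm 2) (sm 2) (sm 1) hyc
  have hne' : el c ≠ 1 := by rw [← el_nil]; exact el_ne (sm 2) small_nil (by rw [hne]; rfl)
  have hgx' : el g * el x = el x ^ i * el g := by
    rw [← el_repWord]; exact eq2 (sm 3) (sm 0) (small_repWord (sm 0) i) (sm 3) hgx
  have hgc' : el g * el c = el c ^ 1 * el g := by rw [pow_one]; exact eq2 (sm 3) (sm 2) (sm 2) (sm 3) hgc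
  have hhy' : el g' * el y = el y ^ i' * el g' := by
    rw [← el_repWord]; exact eq2 (sm 4) (sm 1) (small_repWord (sm 1) i') (sm 4) hhy
  have hhc' : el g' * el c = el c ^ 1 * el g' := by rw [pow_one]; exact eq2 (sm 4) (sm 2) (sm 2) (sm 4) hhc
  refine ⟨Subgroup.closure {el x, el y}, fun hd => hmax ?_, fun Γ _ _ σ hσ hker z hz hzd _ => ?_⟩
  · have hk := ExtraPrime.card_closure hl hcd' (epow (sm 0) hx) (epow (sm 1) hy) (epow (sm 2) hc)
      hcx hcy hne'
    rw [← Subgroup.card_mul_index (Subgroup.closure {el x, el y}), hk, pow_succ]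
    exact mul_dvd_mul dvd_rfl hd
  · exact ExtraPrime.preimage_commutator_inf_ker hσ hker hl hcd' (epow (sm 0) hx) (epow (sm 1) hy)
      hcx hcy hne' hgx' hgc' (by rwa [mul_one]) hhy' hhc' (by rwa [mul_one]) hz hzd

theorem odd_local (l : ℕ) (hl : l.Prime) (h2 : l ≠ 2) : ∃ U : Subgroup RuP, ¬ l ∣ U.index ∧
    ∀ (Γ : Type) [Group Γ] [Finite Γ] (σ : Γ →* RuP), Function.Surjective σ →
      σ.ker ≤ Subgroup.center Γ → ∀ z ∈ σ.ker, z ∈ ⁅U.comap σ, U.comap σ⁆ → z ^ l = 1 → z = 1 := by
  by_cases h3 : l = 3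
  · subst h3
    exact odd_witness hl three_w (by norm_num) (by norm_num) (by rw [order_facts.2.1]; norm_num)
  by_cases h5 : l = 5
  · subst h5
    exact odd_witness hl five_w (by norm_num) (by norm_num) (by rw [order_facts.2.1]; norm_num)
  refine CfsgLib.Golay.Mult.local_of_sq_not_dvd hl fun hd => ?_
  rw [order_facts.2.1] at hd
  have h1 : l ∣ 2 ^ 14 * 3 ^ 3 * 5 ^ 3 * 7 * 13 * 29 := (dvd_pow_self l two_ne_zero).trans (by simpa using hd)
  simp only [Nat.Prime.dvd_mul hl] at h1
  rcases h1 with ((((h | h) | h) | h) | h) | h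
  · exact h2 ((Nat.prime_dvd_prime_iff_eq hl Nat.prime_two).1 (hl.dvd_of_dvd_pow h))
  · exact h3 ((Nat.prime_dvd_prime_iff_eq hl Nat.prime_three).1 (hl.dvd_of_dvd_pow h))
  · exact h5 ((Nat.prime_dvd_prime_iff_eq hl Nat.prime_five).1 (hl.dvd_of_dvd_pow h))
  · have := (Nat.prime_dvd_prime_iff_eq hl (by norm_num)).1 h
    subst this
    norm_num at hd
  · have := (Nat.prime_dvd_prime_iff_eq hl (by norm_num)).1 h
    subst this
    norm_num at hd
  · have := (Nat.prime_dvd_prime_iff_eq hl (by norm_num)).1 h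
    subst this
    norm_num at hd

theorem bound_ru {Γ : Type} [Group Γ] [Finite Γ] {σ : Γ →* RuP} (hσ : Cfsg.IsStemExtension σ) :
    Nat.card σ.ker ∣ 2 := by
  have h := four_w
  simp only [fourW, Bool.and_eq_true, List.all_cons, List.all_nil, Bool.and_true] at h
  obtain ⟨⟨⟨⟨⟨su, sv⟩, huv⟩, k0⟩, k1⟩, k2⟩ := h
  refine card_ker_le_two odd_local (a := el (mRep 1)) (u := el (mFour.getD 0 []))
    (v := el (mFour.getD 1 [])) (g₁ := el (mFourConj.getD 0 [])) (g₂ := el (mFourConj.getD 1 []))
    (g₃ := el (mFourConj.getD 2 [])) (rep_sq 1 (by norm_num)) ?_ (classW_spec k0).2.2.1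
    (classW_spec k1).2.2.1 ?_ (fun E _ _ τ hτ hk hA => no_double_ru E τ hτ hk hA) hσ
  · rw [← el_append, ← el_append]
    exact el_eq (small_append (small_of sv) (small_of su)) (small_append (small_of su) (small_of sv)) huv
  · rw [← el_append]
    exact (classW_spec k2).2.2.1

end CfsgLib.RuGroup
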