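import Cfsg.Agent.Lib.RuGroup.MultBound
import Cfsg.Agent.Lib.RuGroup.CheckCover
import Cfsg.Agent.Lib.Schur.Hopf
import Cfsg.Agent.Lib.Schur.CyclicBound

/-!
The Schur multiplier of the Rudvalis group has order two.
-/

set_option autoImplicit false
set_option maxRecDepth 100000
set_option linter.style.haveILetI false

open scoped commutatorElement

namespace CfsgLib.RuGroup

open CfsgLib.CosetEnum CfsgLib.RuLattice Cfsg.Spor

theorem vecAct_word {w : List ℕ} (hw : Small w) (k : Fin 16240) :
    ((vecAct (w.map genR).prod k : Fin 16240) : ℕ) = imgW w k.val := by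
  induction w with
  | nil => simp [imgW]
  | cons g w ih =>
    rw [List.map_cons, List.prod_cons, map_mul, Equiv.Perm.mul_apply,
      vecAct_gen (hw g List.mem_cons_self)]
    show img g _ = img g (imgW w k.val)
    rw [ih fun x hx => hw x (List.mem_cons_of_mem _ hx)]

theorem anti_pair : ∃ a b : fourRu, ⁅a, b⁆ = genR 9 * genR 9 := by
  have h := anti_ok
  simp only [antiOK, Bool.and_eq_true, List.all_eq_true, Nat.blt_eq] at h
  obtain ⟨⟨ha, hb⟩, hk⟩ := h
  refine ⟨(antiA.map genR).prod, (antiB.map genR).prod, ?_⟩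
  set a := (antiA.map genR).prod with hadef
  set b := (antiB.map genR).prod with hbdef
  have e : a * b = genR 9 * genR 9 * b * a := by
    rw [← inv_mul_eq_one]
    refine eq_one_of_base fun c hc hc' => ?_
    have s1 : Small (antiA ++ antiB) := small_append (fun g hg => ha g hg) (fun g hg => hb g hg)
    have s2 : Small ([9, 9] ++ antiB ++ antiA) :=
      small_append (small_append (fun g hg => by simp at hg; omega) fun g hg => hb g hg) fun g hg => ha g hg
    have e1 : vecAct (a * b) ⟨c, hc'⟩ = vecAct (genR 9 * genR 9 * b * a) ⟨c, hc'⟩ := by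
      refine Fin.ext ?_
      rw [show a * b = ((antiA ++ antiB).map genR).prod by simp [hadef, hbdef],
        show genR 9 * genR 9 * b * a = (([9, 9] ++ antiB ++ antiA).map genR).prod by
          simp [hadef, hbdef, mul_assoc], vecAct_word s1, vecAct_word s2]
      exact Nat.eq_of_beq_eq_true (hk c hc)
    rw [map_mul, map_inv, Equiv.Perm.mul_apply, Equiv.Perm.inv_eq_iff_eq]
    exact e1.symm
  rw [commutatorElement_def, e]
  group

theorem nine_sq_ne : genR 9 * genR 9 ≠ 1 := by
  intro e
  have h4 := four_scalars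
  rw [Nat.card_zpowers] at h4
  have := orderOf_le_of_pow_eq_one (by norm_num : 0 < 2) (show genR 9 ^ 2 = 1 by rw [sq]; exact e)
  omega

/-- the derived group of the lattice group -/
noncomputable abbrev twoRu : Subgroup fourRu := commutator fourRu

/-- the projection -/
noncomputable def twoProj : twoRu →* Ru :=
  (QuotientGroup.mk' (Subgroup.center fourRu)).comp twoRu.subtype

theorem ru_not_comm : ∃ a b : Ru, a * b ≠ b * a := by
  by_contra hno
  push Not at hno
  letI : CommGroup Ru := { (inferInstance : Group Ru) with mul_comm := hno }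
  haveI := ru_simple
  haveI : Finite Ru := Nat.finite_of_card_ne_zero (by rw [ru_order.2]; norm_num)
  have hp : (Nat.card Ru).Prime := IsSimpleGroup.prime_card
  rw [ru_order.2] at hp
  exact absurd hp (by norm_num)

theorem twoProj_surjective : Function.Surjective twoProj := by
  haveI := ru_simple
  set q := QuotientGroup.mk' (Subgroup.center fourRu)
  have htop : (commutator fourRu).map q = ⊤ := by
    rw [commutator_def, Subgroup.map_commutator,
      Subgroup.map_top_of_surjective q (QuotientGroup.mk'_surjective _), ← commutator_def]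
    refine ((commutator_def Ru ▸ inferInstance : (commutator Ru).Normal).eq_bot_or_eq_top).resolve_left
      fun h => ?_
    obtain ⟨a, b, hab⟩ := ru_not_comm
    refine hab ?_
    have hm : ⁅a, b⁆ ∈ commutator Ru :=
      Subgroup.commutator_mem_commutator (Subgroup.mem_top a) (Subgroup.mem_top b)
    rw [h, Subgroup.mem_bot] at hm
    exact commutatorElement_eq_one_iff_mul_comm.mp hm
  intro x
  obtain ⟨c, hc, e⟩ := (htop ▸ Subgroup.mem_top x : x ∈ (commutator fourRu).map q)
  exact ⟨⟨c, hc⟩, e⟩

theorem twoProj_stem : Cfsg.IsStemExtension twoProj := by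
  refine ⟨twoProj_surjective, fun x hx => ?_, fun x _ => ?_⟩
  · rw [Subgroup.mem_center_iff]
    intro y
    have hz : (x : fourRu) ∈ Subgroup.center fourRu :=
      (QuotientGroup.eq_one_iff _).1 (MonoidHom.mem_ker.1 hx)
    exact Subtype.ext (Subgroup.mem_center_iff.1 hz y)
  · have hle : twoRu ≤ (commutator twoRu).map twoRu.subtype := by
      rw [Subgroup.map_subtype_commutator]
      show commutator fourRu ≤ _
      rw [commutator_def, Subgroup.commutator_le]
      intro a _ b _
      obtain ⟨a', ha'⟩ := twoProj_surjective (QuotientGroup.mk' (Subgroup.center fourRu) a)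
      obtain ⟨b', hb'⟩ := twoProj_surjective (QuotientGroup.mk' (Subgroup.center fourRu) b)
      rw [CfsgLib.Schur.commutatorElement_congr (QuotientGroup.mk' (Subgroup.center fourRu))
        (by rw [QuotientGroup.ker_mk']) ha'.symm hb'.symm]
      exact Subgroup.commutator_mem_commutator a'.2 b'.2
    obtain ⟨y, hy, e⟩ := hle x.2
    rwa [show x = y from (Subtype.ext e).symm]

theorem twoRu_finite : Finite twoRu := inferInstance

theorem multiplier_ru : Cfsg.HasCyclicSchurMultiplier Ru 2 := by
  haveI : Fact (Nat.Prime 2) := ⟨Nat.prime_two⟩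
  have hbound : ∀ {Δ : Type} [Group Δ] [Finite Δ] {τ : Δ →* Ru}, Cfsg.IsStemExtension τ →
      Nat.card τ.ker ∣ 2 := by
    intro Δ _ _ τ hτ
    have hk : (ruEquiv.toMonoidHom.comp τ).ker = τ.ker := MonoidHom.ker_mulEquiv_comp τ ruEquiv
    have h := bound_ru (σ := ruEquiv.toMonoidHom.comp τ)
      ⟨ruEquiv.surjective.comp hτ.1, hk ▸ hτ.2.1, hk ▸ hτ.2.2⟩
    rwa [hk] at h
  refine ⟨⟨twoRu, inferInstance, inferInstance, twoProj, twoProj_stem, ?_⟩, fun Δ _ _ τ hτ => ?_⟩
  · have hk : Nat.card twoProj.ker = 2 := by
      refine ((Nat.dvd_prime Nat.prime_two).1 (hbound twoProj_stem)).resolve_left fun e => ?_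
      obtain ⟨a, b, hab⟩ := anti_pair
      have hm : genR 9 * genR 9 ∈ twoRu :=
        hab ▸ Subgroup.commutator_mem_commutator (Subgroup.mem_top a) (Subgroup.mem_top b)
      have hker : (⟨_, hm⟩ : twoRu) ∈ twoProj.ker := MonoidHom.mem_ker.2
        ((QuotientGroup.eq_one_iff _).2 (mul_mem genR_nine_center genR_nine_center))
      rw [Subgroup.eq_bot_of_card_eq _ e, Subgroup.mem_bot] at hker
      exact nine_sq_ne (congrArg Subtype.val hker)
    haveI : IsCyclic twoProj.ker := isCyclic_of_prime_card hk
    exact ⟨mulEquivOfCyclicCardEq (by rw [hk, Nat.card_congr Multiplicative.toAdd, Nat.card_zmod])⟩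
  · have h := hbound hτ
    obtain ⟨g, hg⟩ : ∃ g : τ.ker, ∀ k : τ.ker, k ∈ Subgroup.zpowers g := by
      haveI : IsCyclic τ.ker := by
        rcases (Nat.dvd_prime Nat.prime_two).1 h with e | e
        · have : Subsingleton τ.ker := (Nat.card_eq_one_iff_unique.1 e).1
          exact isCyclic_of_subsingleton
        · exact isCyclic_of_prime_card e
      exact IsCyclic.exists_generator
    exact CfsgLib.StemExt.exists_surjective_of_zmod g hg
      (orderOf_dvd_iff_pow_eq_one.1 ((orderOf_dvd_natCard g).trans h))

end CfsgLib.RuGroup
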