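import Cfsg.Agent.Lib.RuGroup.MultWhyData
import Cfsg.Agent.Lib.RuGroup.MultTabs

/-!
Executable checks against double covers of the Rudvalis group.
-/

set_option autoImplicit false
set_option maxRecDepth 20000

namespace CfsgLib.RuGroup

open CfsgLib.CosetEnum CfsgLib.Schur.InvTable

/-- generators, representatives, definitions -/
noncomputable def genOK : Bool :=
  mGens.all small10 && mReps.all small10 && Nat.beq mGens.length 5 && Nat.beq mReps.length 2 &&
    sameBase (mRep 0 ++ mRep 0) [] && sameBase (mRep 1 ++ mRep 1) [] &&
    ((List.range 5).all fun j => classW (mGenWhy.getD j (2, [])) (mGens.getD j []) &&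
      ((mDefs.getD j []).isEmpty ||
        (sameBase (mExp (mDefs.getD j [])) (mGens.getD j []) &&
          (mDefs.getD j []).all fun i => Nat.blt i 5 && (mDefs.getD i []).isEmpty)))

/-- the seven products of three commuting involutions lie in the first class -/
noncomputable def sevenW : Bool :=
  let u := mSeven.getD 0 []
  let v := mSeven.getD 1 []
  let w := mSeven.getD 2 []
  let c := fun i => mSevenConj.getD i []
  [u, v, w].all small10 &&
    sameBase (v ++ u) (u ++ v) && sameBase (w ++ u) (u ++ w) && sameBase (w ++ v) (v ++ w) &&
    classW (0, c 0) (u ++ v ++ w) && classW (0, c 1) (u ++ v) && classW (0, c 2) (u ++ w) &&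
    classW (0, c 3) (v ++ w) && classW (0, c 4) u && classW (0, c 5) v && classW (0, c 6) w

/-- two commuting involutions with their product in the second class -/
noncomputable def fourW : Bool :=
  let u := mFour.getD 0 []
  let v := mFour.getD 1 []
  let c := fun i => mFourConj.getD i []
  [u, v].all small10 && sameBase (v ++ u) (u ++ v) &&
    classW (1, c 0) u && classW (1, c 1) v && classW (1, c 2) (u ++ v)

/-- the reasons fit the relators -/
noncomputable def whysOK (T : Tab) (ws : List Why) : Bool :=
  Nat.beq T.words.length ws.length && (T.words.zip ws).all fun z => whyOK z.1 z.2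

/-- a packed image -/
noncomputable def keyComp (key i : ℕ) : ℕ :=
  Nat.mod (Nat.shiftRight key (Nat.mul (nat_lit 12) i)) (nat_lit 4096)

/-- the images of the base points under a word, packed -/
noncomputable def keyW (w : List ℕ) : ℕ :=
  Nat.add (wordImg w (nat_lit 0)) (Nat.add (Nat.mul (nat_lit 4096) (wordImg w (nat_lit 65)))
    (Nat.add (Nat.mul (nat_lit 16777216) (wordImg w (nat_lit 2)))
      (Nat.mul (nat_lit 68719476736) (wordImg w (nat_lit 1)))))

/-- the tree in packed form is the tree of the table -/
noncomputable def parOK : Bool :=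
  ((List.range 2047).map fun t => strict (mPar.at' 16 (t + 1)) fun e => (e % 8, e / 8)) == mTabP.tree

/-- one element of the subgroup -/
noncomputable def keyRow (t : ℕ) : Bool :=
  strict (mKeys.at' 48 t) fun key =>
    band (band (band (Nat.beq (mSrt.at' 11 (mRank.at' 11 t)) t) (ltB (mRank.at' 11 t) (nat_lit 2048)))
        (pick (Nat.beq t (nat_lit 2047)) true
          (ltB (mKeys.at' 48 (mSrt.at' 11 t)) (mKeys.at' 48 (mSrt.at' 11 (Nat.succ t))))))
      (pick (Nat.beq t (nat_lit 0)) (Nat.beq key (keyW []))
        (strict (mPar.at' 16 t) fun e => band (ltB (Nat.div e (nat_lit 8)) t)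
          (strict (mKeys.at' 48 (Nat.div e (nat_lit 8))) fun old =>
            (fun g : List ℕ =>
              band (band (Nat.beq (wordImg g (keyComp old 0)) (keyComp key 0))
                  (Nat.beq (wordImg g (keyComp old 1)) (keyComp key 1)))
                (band (Nat.beq (wordImg g (keyComp old 2)) (keyComp key 2))
                  (band (Nat.beq (wordImg g (keyComp old 3)) (keyComp key 3))
                    (Nat.blt key (nat_lit 281474976710656))))) (mGens.getD (Nat.mod e (nat_lit 8)) []))))

/-- the path of a coset -/
def tPath : ℕ → ℕ → List ℕ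
  | 0, _ => []
  | f + 1, i =>
    if i = 0 then [] else (mTabT.tree.getD (i - 1) (0, 0)).1 :: tPath f (mTabT.tree.getD (i - 1) (0, 0)).2

/-- the word of a coset -/
def tWord (i : ℕ) : List ℕ := tPath 8 i

/-- the paths follow the tree -/
noncomputable def tPathOK : Bool :=
  Nat.beq mTabT.N 8 && tWord 0 == [] && (List.range 7).all fun t =>
    let p := mTabT.tree.getD t (0, 0)
    Nat.blt p.2 (t + 1) && Nat.blt p.1 5 && tWord (t + 1) == p.1 :: tWord p.2

/-- inverses of the representatives of the cosets -/
noncomputable def tInvOK : Bool :=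
  (List.range 8).all fun i => small10 (mTInv.getD i []) &&
    sameBase (mTInv.getD i [] ++ mExp (tWord i)) []

/-- two cosets differ -/
noncomputable def sepOK (i i' : ℕ) : Bool :=
  pick (Nat.beq i i') true
    (strict (keyW (mTInv.getD i' [] ++ mExp (tWord i))) fun key =>
      allUp (fun l => pick (Nat.beq (mKeys.at' 48 l) key) false true) 11 0)

/-- extraspecial generators with normalising elements -/
noncomputable def oddW (l : ℕ) (d : List (List ℕ)) (i i' : ℕ) : Bool :=
  let x := d.getD 0 []
  let y := d.getD 1 []
  let c := d.getD 2 []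
  let g := d.getD 3 []
  let h := d.getD 4 []
  d.all small10 && sameBase (x ++ y) (c ++ (y ++ x)) &&
    sameBase (repWord x l) [] && sameBase (repWord y l) [] && sameBase (repWord c l) [] &&
    sameBase (x ++ c) (c ++ x) && sameBase (y ++ c) (c ++ y) && !(sameBase c []) &&
    sameBase (g ++ x) (repWord x i ++ g) && sameBase (g ++ c) (c ++ g) &&
    sameBase (h ++ y) (repWord y i' ++ h) && sameBase (h ++ c) (c ++ h)

end CfsgLib.RuGroup
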