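import Mathlib

/-!
Words for the elements used against double covers.
-/

set_option autoImplicit false
set_option maxRecDepth 20000
set_option linter.style.longLine false

namespace CfsgLib.RuGroup

/-- generators -/
def mGens : List (List ℕ) :=
  [[4, 6, 4, 0, 0, 7, 3, 5, 3, 2, 8, 7, 4, 5, 8, 7, 6], [3, 5, 2, 1, 3, 4, 6, 4, 3, 7, 4, 4, 6, 4, 6, 7], [0, 6, 3, 1, 0, 2, 2, 6, 2, 2, 5, 5, 5, 4, 5, 7], [1, 8, 2, 1, 0, 0, 7, 3, 3, 5, 2, 5, 7, 5, 7, 5, 8, 8, 8], [1, 8, 3, 5, 0, 0, 7, 2, 2, 2, 8, 5, 4, 8, 8, 6]]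

/-- generators defined by others -/
def mDefs : List (List ℕ) :=
  [[], [3, 0, 4, 3, 0, 4, 0, 3, 0, 4, 0, 3, 4, 0, 3], [3, 0, 3, 4, 0, 3, 0, 4, 3, 0, 3], [], []]

/-- representatives of the involutions -/
def mReps : List (List ℕ) :=
  [[8, 1, 3, 0, 6, 5, 7, 3, 2, 2, 5, 4, 6, 5, 4, 7, 6], [0, 0, 7, 0, 0, 6, 4, 8, 4, 2, 2, 5, 8, 4, 5, 5]]

/-- classes and conjugators of the generators -/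
def mGenWhy : List (ℕ × List ℕ) :=
  [(0, [2, 2, 0, 3, 0, 7, 5, 7, 3, 8, 5, 5, 5, 8, 8, 8]), (0, [6, 0, 5, 3, 1, 2, 8, 3, 8, 8, 4, 7, 4, 4, 6, 7]), (0, [1, 5, 1, 1, 3, 7, 3, 3, 2, 5, 8, 6, 7, 4, 6, 7, 6]), (0, [2, 3, 2, 2, 0, 7, 2, 5, 6, 2, 2, 5, 5, 8, 7, 4, 8, 6, 7, 6]), (0, [0, 4, 1, 4, 1, 4, 2, 2, 3, 5, 5, 6, 5, 5, 4, 8, 8, 8])]

/-- three commuting involutions -/
def mSeven : List (List ℕ) :=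
  [[0, 7, 2, 0, 5, 2, 2, 3, 5, 8, 7, 4, 8], [8, 1, 3, 0, 5, 2, 7, 3, 5, 4, 4, 5, 8, 4, 8, 6, 7], [4, 0, 7, 3, 0, 3, 8, 5, 2, 2, 8, 8, 4, 8, 6]]

/-- conjugators of their seven products -/
def mSevenConj : List (List ℕ) :=
  [[0, 0, 0, 7, 0, 0, 7, 2, 4, 5, 2, 8, 4, 8, 6, 4, 7], [6, 2, 7, 2, 1, 3, 4, 3, 7, 2, 4, 8, 8, 4, 4], [3, 4, 1, 3, 0, 4, 8, 4, 4, 2, 2, 8, 5, 5, 4, 4, 8, 6], [7, 2, 0, 7, 0, 3, 2, 3, 4, 3, 8, 6, 4, 5, 8, 8], [3, 4, 6, 4, 1, 5, 6, 2, 3, 2, 5, 6, 5, 4, 4, 8], [2, 5, 4, 2, 1, 3, 6, 2, 5, 3, 4, 5, 6, 5, 4, 4, 8, 6, 7], [4, 0, 4, 3, 1, 3, 7, 5, 5, 3, 6, 4, 6, 4, 6, 4, 7, 6]]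

/-- a four-group of the second class -/
def mFour : List (List ℕ) :=
  [[1, 4, 6, 1, 0, 5, 3, 2, 4, 2, 5, 8, 6, 5, 8, 5, 6, 7, 6], [0, 3, 3, 0, 0, 6, 2, 2, 3, 4, 7, 4, 8, 7, 5, 4, 8]]

/-- conjugators of its involutions -/
def mFourConj : List (List ℕ) :=
  [[6, 1, 0, 0, 6, 2, 2, 3, 4, 5, 6, 4, 5, 8], [4, 0, 3, 0, 3, 5, 2, 7, 2, 5, 8, 5, 5, 4, 5, 4, 7], [7, 5, 2, 0, 4, 2, 4, 3, 7, 4, 7, 5, 5, 5, 8, 8, 8]]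

/-- inverses of the coset representatives -/
def mTInv : List (List ℕ) :=
  [[], [1, 8, 3, 5, 0, 0, 7, 2, 2, 2, 8, 5, 4, 8, 8, 6], [7, 0, 7, 3, 0, 0, 2, 8, 2, 4, 2, 5, 4, 7, 5, 4, 8, 8, 6], [7, 4, 5, 1, 8, 5, 7, 5, 2, 4, 5, 5, 4, 4, 4, 7, 6], [7, 2, 0, 1, 5, 3, 3, 8, 2, 5, 4, 5, 5, 4, 4, 8], [1, 1, 2, 0, 1, 8, 5, 3, 2, 7, 4, 5, 6, 4, 8], [8, 5, 1, 3, 0, 5, 7, 2, 3, 4, 8, 6, 7, 4, 8], [8, 0, 7, 4, 1, 5, 4, 4, 2, 4, 5, 8, 5, 7, 4, 8, 8, 8]]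

/-- extraspecial generators, their commutator and normalising elements -/
def mOddThree : List (List ℕ) :=
  [[3, 8, 8, 1, 0, 8, 2, 3, 4, 3, 7, 6, 5, 4, 5, 8, 8, 8, 6], [4, 6, 4, 2, 0, 0, 4, 8, 6, 4, 3, 4, 4, 4, 8, 6, 4, 6, 7], [7, 0, 2, 0, 7, 4, 5, 4, 2, 6, 5, 5, 4, 5, 4, 8, 8], [8, 8, 1, 7, 0, 4, 2, 2, 2, 6, 5, 5, 7, 5, 5, 4, 8, 8], [1, 2, 7, 4, 0, 5, 8, 6, 2, 2, 4, 7, 5, 5, 6, 5, 7]]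

/-- extraspecial generators, their commutator and normalising elements -/
def mOddFive : List (List ℕ) :=
  [[5, 8, 3, 3, 0, 3, 2, 3, 7, 2, 5, 7, 4, 7, 5, 8, 6], [8, 0, 3, 2, 0, 8, 7, 2, 2, 5, 5, 4, 5, 5, 7], [2, 3, 1, 3, 6, 5, 5, 2, 8, 4, 8, 4, 8, 4, 8, 8, 8, 6], [1, 2, 4, 4, 1, 2, 7, 2, 5, 2, 7, 5, 5, 5, 8, 5, 8, 8, 8], [8, 1, 3, 0, 6, 5, 7, 3, 2, 2, 5, 4, 6, 5, 4, 7, 6]]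

end CfsgLib.RuGroup
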