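import Cfsg.Agent.Lib.RuGroup.OutDefs
import Cfsg.Agent.Lib.RuGroup.MultWords

/-!
Executable checks that a relator holds in suitable lifts to a double cover.
-/

set_option autoImplicit false

namespace CfsgLib.RuGroup

open CfsgLib.CosetEnum

/-- why a relator holds -/
inductive Why
  /-- a letter and its definition -/
  | defn
  /-- a square: class and conjugator of the half -/
  | sq (x : ℕ × List ℕ)
  /-- a commutator with an involution: length of the first word, class and conjugator of the
  involution, involutions with classes of themselves and of their products -/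
  | comm (la : ℕ) (x : ℕ × List ℕ) (ts : List (List ℕ × (ℕ × List ℕ) × (ℕ × List ℕ)))

/-- a word in the generators as a word in the letters -/
def mExp (w : List ℕ) : List ℕ := w.flatMap fun j => mGens.getD j []

/-- the word of a representative -/
def mRep (c : ℕ) : List ℕ := mReps.getD c []

/-- small letters, as a check -/
def small10 (w : List ℕ) : Bool := w.all fun g => Nat.blt g 10

/-- conjugate to a representative -/
noncomputable def classW (x : ℕ × List ℕ) (v : List ℕ) : Bool :=
  band (band (Nat.blt x.1 2) (band (small10 x.2) (small10 v)))
    (sameBase (x.2 ++ v) (mRep x.1 ++ x.2))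

/-- one relator -/
noncomputable def whyOK (w : List ℕ) : Why → Bool
  | .defn => !w.isEmpty && (w == w.headD 0 :: mDefs.getD (w.headD 0) []) &&
      Nat.blt (w.headD 0) 5 && !(mDefs.getD (w.headD 0) []).isEmpty
  | .sq x => (w == w.take (w.length / 2) ++ w.take (w.length / 2)) &&
      classW x (mExp (w.take (w.length / 2)))
  | .comm la x ts =>
    (w == w.take la ++ (w.take (w.length / 2)).drop la ++
        ((w.take la).reverse ++ ((w.take (w.length / 2)).drop la).reverse)) &&
      w.all (fun j => Nat.blt j 5) &&
      classW x (mExp ((w.take (w.length / 2)).drop la)) &&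
      sameBase (ts.flatMap fun t => t.1) (mExp (w.take la)) &&
      ts.all (fun t => classW t.2.1 t.1 &&
        classW t.2.2 (t.1 ++ mExp ((w.take (w.length / 2)).drop la)) &&
        sameBase (t.1 ++ mExp ((w.take (w.length / 2)).drop la))
          (mExp ((w.take (w.length / 2)).drop la) ++ t.1))

end CfsgLib.RuGroup
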