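import Cfsg.Agent.Lib.RuGroup.MultWhy

/-!
Reasons for the relators.
-/

set_option autoImplicit false
set_option maxRecDepth 20000
set_option linter.style.longLine false

namespace CfsgLib.RuGroup

/-- reasons for the relators of the subgroup -/
def mWhyP : List Why := [
  .sq (1, [0, 1, 0, 7, 0, 5, 5, 8, 3, 2, 5, 4, 4, 4, 8, 8]),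
  .sq (0, [5, 0, 2, 0, 0, 2, 6, 3, 2, 3, 5, 6, 5, 5]),
  .sq (0, [1, 4, 2, 7, 0, 3, 4, 2, 5, 6, 5, 8, 8, 8, 6]),
  .sq (0, [6, 4, 2, 0, 2, 3, 7, 2, 2, 7, 5, 6, 5, 4, 6, 7, 6]),
  .sq (0, [2, 5, 2, 7, 0, 7, 4, 4, 2, 5, 5, 4, 5, 4, 6, 7, 6]),
  .sq (0, [1, 4, 3, 0, 0, 6, 4, 8, 4, 2, 8, 6, 7, 4, 4, 4, 4, 8, 8]),
  .sq (0, [2, 1, 2, 8, 0, 8, 6, 2, 2, 2, 6, 5, 4, 7, 4, 5, 6]),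
  .sq (1, [2, 7, 0, 7, 1, 5, 4, 3, 3, 6, 4, 8, 8, 4, 4, 8, 6]),
  .sq (0, [0, 2, 3, 0, 0, 8, 8, 2, 3, 2, 4, 8, 4, 4, 4, 4, 8, 8]),
  .sq (1, [1, 0, 3, 1, 8, 7, 2, 2, 6, 5, 5, 7, 5, 5, 4, 8, 7]),
  .sq (0, [3, 5, 5, 3, 0, 5, 7, 2, 7, 2, 2, 6, 5, 7, 5, 5, 8]),
  .sq (0, [0, 0, 6, 5, 0, 0, 8, 6, 4, 3, 5, 5, 8, 5, 5, 4, 4, 8, 8, 8]),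
  .sq (0, [6, 2, 4, 0, 0, 8, 5, 7, 2, 2, 8, 4, 6, 4, 8, 4, 8, 8, 6]),
  .sq (0, [8, 0, 8, 2, 1, 4, 3, 2, 2, 2, 8, 6, 5, 8, 5, 4, 8]),
  .sq (0, [1, 2, 4, 1, 5, 4, 4, 3, 2, 4, 8, 6, 4, 4, 4, 4, 8, 6, 7, 6]),
  .sq (0, [6, 5, 6, 2, 0, 4, 2, 7, 5, 5, 5, 7, 5, 8, 6, 7, 6]),
  .sq (0, [5, 2, 0, 2, 1, 7, 2, 6, 2, 2, 7, 6, 4, 5, 5, 4, 8, 6]),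
  .sq (0, [3, 1, 3, 1, 7, 2, 6, 3, 4, 4, 6, 4, 7, 4, 4, 6, 7]),
  .sq (0, [8, 5, 0, 1, 0, 8, 8, 3, 3, 3, 5, 4, 6, 4, 4, 4, 8, 8, 6]),
  .sq (0, [3, 7, 4, 2, 0, 3, 4, 2, 4, 2, 8, 7, 4, 8, 8, 8, 6]),
  .sq (0, [1, 1, 1, 8, 2, 6, 2, 3, 2, 8, 8, 4, 6, 4, 6, 7, 6]),
  .sq (0, [7, 0, 0, 1, 0, 8, 3, 5, 5, 2, 5, 5, 5, 4, 4, 4, 7]),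
  .sq (0, [8, 5, 0, 2, 1, 5, 4, 3, 2, 4, 5, 6, 5, 4, 5, 6]),
  .sq (0, [5, 0, 4, 8, 0, 0, 5, 8, 7, 3, 3, 5, 5, 8, 4, 4, 7]),
  .sq (0, [2, 1, 0, 0, 0, 6, 2, 3, 7, 2, 8, 4, 8, 4, 4, 8, 8]),
  .sq (0, [2, 0, 0, 5, 0, 2, 7, 2, 8, 5, 2, 6, 5, 4, 8, 6, 4, 8, 8, 8, 6]),
  .sq (0, [1, 0, 4, 1, 3, 6, 4, 8, 2, 4, 4, 5, 5, 5, 4, 7]),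
  .sq (0, [1, 4, 3, 5, 0, 5, 6, 3, 4, 2, 4, 5, 4, 5, 4, 6, 7]),
  .sq (0, [5, 2, 5, 2, 1, 0, 2, 8, 5, 3, 8, 8, 4, 5, 4, 5, 8, 6, 7]),
  .sq (0, [0, 3, 2, 0, 0, 0, 5, 2, 6, 2, 2, 4, 6, 5, 7, 4, 4, 6]),
  .sq (0, [4, 2, 7, 1, 0, 8, 2, 7, 3, 4, 8, 4, 8, 4, 8, 6, 7]),
  .sq (0, [0, 8, 5, 0, 2, 7, 5, 2, 7, 4, 7, 5, 5, 5, 8, 8]),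
  .sq (0, [1, 2, 6, 0, 1, 4, 4, 2, 5, 5, 4, 5, 7, 5, 8, 7]),
  .sq (0, [3, 2, 8, 0, 1, 4, 7, 4, 5, 2, 7, 4, 4, 4, 4, 8, 8]),
  .sq (1, [0, 8, 2, 3, 0, 4, 8, 3, 2, 8, 5, 6, 4, 8, 8, 8]),
  .sq (1, [2, 1, 1, 0, 1, 4, 8, 2, 8, 3, 8, 5, 5, 5, 4, 5, 6, 7, 6]),
  .sq (1, [1, 3, 8, 4, 0, 2, 8, 4, 2, 3, 4, 8, 5, 7, 4, 8, 6, 7]),
  .sq (0, [5, 0, 0, 0, 0, 7, 3, 5, 3, 3, 4, 5, 5, 8, 5, 4, 6]),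
  .sq (0, [4, 2, 8, 5, 0, 3, 8, 2, 3, 2, 5, 4, 8, 7, 4, 4, 8, 7]),
  .sq (0, [0, 1, 4, 3, 1, 5, 5, 4, 2, 2, 4, 6, 4, 4, 4, 8, 7, 6]),
  .sq (0, [7, 3, 3, 0, 7, 6, 4, 2, 3, 8, 4, 8, 7, 6, 5, 6, 7, 6]),
  .sq (0, [1, 2, 8, 3, 1, 7, 4, 2, 2, 4, 4, 5, 8, 6, 7]),
  .sq (0, [7, 3, 2, 4, 0, 5, 3, 5, 3, 6, 4, 6, 4, 8, 6, 7, 6]),
  .sq (0, [4, 5, 2, 3, 0, 5, 7, 5, 5, 4, 2, 7, 5, 6, 5, 7, 5]),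
  .sq (0, [3, 3, 5, 4, 0, 7, 3, 3, 6, 5, 5, 4, 4, 5, 7, 6]),
  .sq (0, [3, 1, 6, 1, 8, 3, 2, 5, 2, 6, 5, 4, 4, 5, 8, 6, 7, 6]),
  .sq (0, [5, 4, 2, 1, 0, 6, 2, 8, 3, 5, 4, 5, 4, 4, 5, 7]),
  .sq (0, [7, 5, 8, 1, 7, 3, 7, 5, 2, 5, 8, 4, 8, 7, 5, 8, 7, 6]),
  .sq (0, [0, 2, 1, 2, 0, 5, 2, 8, 5, 4, 6, 5, 8, 7, 6]),
  .sq (0, [5, 3, 6, 1, 0, 6, 4, 5, 2, 4, 7, 4, 6, 4, 8, 8]),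
  .sq (0, [6, 2, 3, 2, 0, 7, 2, 6, 4, 3, 5, 4, 5, 4, 8, 8, 8, 6]),
  .sq (0, [4, 8, 3, 7, 0, 4, 4, 6, 4, 3, 6, 5, 6, 5, 5, 5, 4, 8, 7, 6]),
  .sq (0, [0, 5, 7, 0, 0, 7, 3, 3, 2, 2, 4, 8, 6, 4, 8, 8, 8, 6]),
  .sq (0, [8, 0, 0, 1, 1, 6, 7, 2, 4, 2, 6, 4, 8, 7, 6, 5, 8, 8, 8]),
  .sq (0, [2, 3, 5, 0, 2, 7, 6, 3, 3, 7, 6, 5, 4, 4, 5, 8, 6, 7]),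
  .sq (0, [6, 1, 7, 1, 2, 3, 2, 2, 5, 8, 5, 8, 5, 4, 6]),
  .sq (0, [5, 2, 5, 5, 1, 0, 4, 3, 5, 2, 3, 4, 4, 5, 4, 7, 4, 6, 7]),
  .sq (0, [4, 0, 4, 0, 3, 3, 5, 7, 2, 8, 4, 6, 4, 8, 7, 6]),
  .sq (0, [5, 5, 5, 2, 0, 0, 2, 5, 7, 3, 2, 7, 5, 7, 4, 4, 5]),
  .sq (0, [6, 1, 5, 6, 1, 5, 3, 5, 3, 5, 5, 6, 5, 7, 6, 4, 7, 6]),
  .sq (0, [2, 8, 3, 0, 3, 4, 6, 4, 3, 5, 8, 5, 4, 5, 4, 6]),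
  .sq (0, [8, 3, 8, 3, 0, 6, 3, 8, 6, 3, 8, 6, 5, 4, 4, 4, 8, 8, 8]),
  .sq (0, [3, 5, 3, 2, 0, 7, 2, 7, 2, 2, 4, 5, 5, 4, 5, 8, 6, 7]),
  .sq (0, [0, 6, 0, 0, 5, 3, 3, 8, 2, 6, 4, 4, 4, 4, 7]),
  .sq (0, [1, 3, 1, 7, 1, 8, 3, 3, 3, 5, 5, 7, 5, 8, 4, 8, 8, 8]),
  .sq (0, [8, 0, 5, 2, 0, 3, 2, 8, 4, 3, 2, 7, 4, 5, 5, 4, 8]),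
  .sq (0, [2, 8, 1, 4, 0, 6, 7, 3, 5, 2, 2, 5, 5, 5, 8, 6, 4, 8, 8]),
  .sq (0, [3, 8, 7, 0, 5, 6, 4, 3, 5, 8, 6, 4, 5, 4, 8, 7, 6]),
  .sq (0, [2, 4, 0, 6, 0, 0, 3, 7, 2, 2, 2, 8, 6, 5, 6, 5, 4, 8]),
  .sq (0, [4, 7, 5, 5, 0, 4, 8, 3, 3, 2, 2, 8, 8, 4, 5, 7]),
  .sq (0, [7, 4, 7, 1, 4, 8, 5, 5, 2, 8, 5, 6, 5, 4, 8, 6, 7, 6]),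
  .sq (0, [3, 0, 8, 5, 0, 5, 6, 4, 6, 2, 2, 4, 8, 7, 5, 5, 8, 8, 8, 6]),
  .sq (0, [1, 4, 0, 7, 0, 0, 4, 3, 4, 2, 2, 5, 5, 6, 5, 7, 4, 4, 8]),
  .sq (0, [2, 6, 7, 0, 8, 3, 3, 8, 3, 4, 8, 4, 4, 6, 4, 7]),
  .sq (0, [7, 6, 4, 0, 0, 7, 5, 4, 4, 4, 2, 8, 4, 4, 6, 7, 4, 4, 7]),
  .sq (0, [5, 2, 5, 5, 1, 0, 2, 4, 2, 2, 5, 4, 7, 5, 5, 8, 8, 8]),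
  .sq (1, [3, 4, 0, 3, 0, 3, 3, 5, 4, 2, 7, 4, 6, 4, 5, 4, 8]),
  .sq (0, [6, 0, 6, 1, 0, 2, 8, 6, 3, 5, 5, 4, 7, 4, 5, 8, 8]),
  .sq (0, [8, 8, 0, 6, 7, 4, 3, 3, 2, 5, 6, 4, 6, 4, 8, 7]),
  .sq (0, [6, 4, 4, 1, 0, 3, 5, 8, 3, 4, 2, 8, 5, 8, 4, 5, 4, 7]),
  .comm 5 (0, [2, 2, 0, 3, 0, 7, 5, 7, 3, 8, 5, 5, 5, 8, 8, 8]) [([1, 8, 3, 6, 0, 0, 8, 3, 2, 7, 5, 6, 5, 4, 4, 7, 6], (0, [8, 6, 2, 0, 0, 5, 5, 4, 3, 2, 5, 5, 6, 5, 4, 8, 8, 8, 6]), (0, [7, 0, 2, 1, 0, 4, 3, 2, 5, 2, 5, 5, 8, 5, 6])), ([0, 6, 3, 5, 0, 7, 4, 4, 2, 7, 5, 6, 4, 5, 5, 4, 7, 6], (0, [5, 0, 5, 1, 3, 6, 5, 8, 3, 4, 6, 5, 8, 5, 8, 6, 7, 6]), (0, [7, 2, 8, 1, 2, 4, 4, 4, 2, 2, 6,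 5, 4, 7, 4, 5, 8, 6, 7])), ([6, 3, 2, 0, 7, 4, 4, 3, 4, 8, 8, 4, 4], (1, [1, 1, 1, 2, 0, 8, 2, 2, 6, 2, 2, 7, 4, 7, 5, 4, 4, 6, 7, 6]), (1, [2, 5, 5, 0, 2, 3, 4, 4, 2, 8, 6, 4, 6, 4, 8])), ([1, 4, 3, 1, 0, 3, 8, 2, 3, 7, 6, 5, 5, 8, 5, 6, 7, 6], (0, [7, 0, 8, 4, 1, 7, 6, 3, 6, 5, 7, 6, 5, 5, 6, 7]), (0, [6, 3, 0, 8, 0, 0, 6, 5, 4, 4, 2, 6, 7, 5, 4, 4, 7, 6])), ([0, 0, 6, 7, 0, 2, 4, 3, 3, 3, 4, 4, 4, 8, 4, 4, 6, 7], (0, [1, 1, 3, 8, 1, 7, 2, 4, 3, 6, 4, 5, 7, 4, 5, 8, 8]), (0, [4, 4, 0, 0, 7, 6, 4, 2, 3, 4, 7, 4, 5, 5, 5, 7, 6])), ([6, 3, 2, 0, 7, 4, 4, 3, 4, 8, 8, 4, 4], (1, [1, 1, 1, 2, 0, 8, 2, 2, 6, 2, 2, 7, 4, 7, 5, 4, 4, 6, 7, 6]), (1,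 [2, 5, 5, 0, 2, 3, 4, 4, 2, 8, 6, 4, 6, 4, 8])), ([0, 0, 6, 7, 0, 2, 4, 3, 3, 3, 4, 4, 4, 8, 4, 4, 6, 7], (0, [1, 1, 3, 8, 1, 7, 2, 4, 3, 6, 4, 5, 7, 4, 5, 8, 8]), (0, [4, 4, 0, 0, 7, 6, 4, 2, 3, 4, 7, 4, 5, 5, 5, 7, 6])), ([6, 3, 2, 0, 7, 4, 4, 3, 4, 8, 8, 4, 4], (1, [1, 1, 1, 2, 0, 8, 2, 2, 6, 2, 2, 7, 4, 7, 5, 4, 4, 6, 7, 6]), (1, [2, 5, 5, 0, 2, 3, 4, 4, 2, 8, 6, 4, 6, 4, 8])), ([0, 6, 3, 5, 0, 7, 4, 4, 2, 7, 5, 6, 4, 5, 5, 4, 7, 6], (0, [5, 0, 5, 1, 3, 6, 5, 8, 3, 4, 6, 5, 8, 5, 8, 6, 7, 6]), (0, [7, 2, 8, 1, 2, 4, 4, 4, 2, 2, 6, 5, 4, 7, 4, 5, 8, 6, 7]))],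
  .comm 5 (0, [2, 2, 0, 3, 0, 7, 5, 7, 3, 8, 5, 5, 5, 8, 8, 8]) [([2, 2, 6, 3, 0, 4, 6, 5, 3, 8, 8, 8, 5, 4, 7], (0, [7, 5, 2, 0, 4, 7, 5, 3, 2, 8, 5, 8, 6, 7]), (0, [3, 2, 7, 0, 0, 8, 8, 8, 2, 5, 5, 5, 4, 7, 4, 8, 8, 8])), ([8, 6, 0, 0, 4, 7, 4, 4, 2, 6, 5, 5, 7, 4, 5, 7, 6], (1, [3, 1, 3, 5, 0, 0, 2, 5, 8, 3, 5, 5, 8, 4, 5, 5, 6]), (1, [7, 2, 3, 4, 1, 0, 2, 3, 8, 4, 3, 7, 4, 5, 7, 4, 4, 8, 6, 7])), ([2, 2, 6, 3, 0, 4, 6, 5, 3, 8, 8, 8, 5, 4, 7], (0, [7, 5, 2, 0, 4, 7, 5, 3, 2, 8, 5, 8, 6, 7]), (0, [3, 2, 7, 0, 0, 8, 8, 8, 2, 5, 5, 5, 4, 7, 4, 8, 8, 8])), ([0, 8, 7, 5, 1, 8, 5, 8, 2, 5, 7, 5, 7, 4, 5, 7, 6], (0, [8, 2, 2, 0, 6, 5, 4, 4, 2,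 5, 7, 6, 5, 4, 8, 8, 6]), (0, [8, 3, 8, 3, 0, 6, 3, 8, 6, 3, 8, 6, 5, 4, 4, 4, 8, 8, 8])), ([8, 6, 0, 0, 4, 7, 4, 4, 2, 6, 5, 5, 7, 4, 5, 7, 6], (1, [3, 1, 3, 5, 0, 0, 2, 5, 8, 3, 5, 5, 8, 4, 5, 5, 6]), (1, [7, 2, 3, 4, 1, 0, 2, 3, 8, 4, 3, 7, 4, 5, 7, 4, 4, 8, 6, 7])), ([0, 8, 7, 5, 1, 8, 5, 8, 2, 5, 7, 5, 7, 4, 5, 7, 6], (0, [8, 2, 2, 0, 6, 5, 4, 4, 2, 5, 7, 6, 5, 4, 8, 8, 6]), (0, [8, 3, 8, 3, 0, 6, 3, 8, 6, 3, 8, 6, 5, 4, 4, 4, 8, 8, 8])), ([2, 5, 7, 3, 0, 4, 6, 5, 3, 4, 5, 5, 8, 5, 6, 7, 6], (0, [8, 0, 1, 7, 3, 8, 2, 2, 5, 6, 5, 8, 5, 8, 8, 8, 6]), (0, [3, 4, 7, 1, 0, 6, 3, 5, 7, 2, 5, 5, 5, 4, 5, 4, 8, 6, 7])), ([7, 4, 7, 1, 0, 3, 5,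 8, 3, 4, 2, 8, 5, 4, 6, 7], (0, [1, 2, 1, 3, 0, 8, 8, 2, 2, 4, 6, 7, 6, 4, 6, 7]), (0, [8, 4, 1, 0, 7, 6, 5, 2, 8, 6, 5, 5, 8, 5, 4, 6, 7, 6]))],
  .comm 1 (0, [0, 2, 3, 0, 0, 8, 8, 2, 3, 2, 4, 8, 4, 4, 4, 4, 8, 8]) [([1, 3, 1, 0, 6, 4, 2, 4, 2, 6, 7, 5, 4, 4, 7], (1, [6, 4, 2, 1, 0, 6, 2, 5, 3, 8, 6, 7, 5, 5, 4, 8, 8, 8]), (1, [8, 3, 8, 0, 3, 7, 5, 4, 3, 4, 4, 6, 4, 6, 4, 8, 6])), ([4, 2, 0, 4, 0, 2, 7, 3, 2, 5, 4, 6, 5, 5, 8, 7, 6], (0, [0, 0, 5, 2, 0, 2, 3, 8, 2, 2, 4, 8, 7, 5, 8, 8, 8]), (0, [7, 3, 8, 7, 0, 5, 7, 2, 5, 6, 5, 5, 8, 6])), ([5, 1, 8, 5, 0, 2, 3, 5, 5, 2, 4, 5, 4, 5, 5, 8, 6, 7, 6], (0, [0, 7, 6, 1, 2, 5, 8, 2, 2, 7, 4, 4,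 8, 4, 7, 4, 8, 7]), (0, [0, 5, 3, 5, 7, 2, 6, 7, 4, 4, 5, 8, 6, 7])), ([1, 3, 1, 0, 6, 4, 2, 4, 2, 6, 7, 5, 4, 4, 7], (1, [6, 4, 2, 1, 0, 6, 2, 5, 3, 8, 6, 7, 5, 5, 4, 8, 8, 8]), (1, [8, 3, 8, 0, 3, 7, 5, 4, 3, 4, 4, 6, 4, 6, 4, 8, 6])), ([5, 3, 6, 1, 0, 6, 5, 3, 7, 2, 5, 4, 5, 5, 8, 7], (0, [8, 2, 5, 8, 0, 2, 3, 5, 3, 2, 8, 5, 8, 5, 7, 5, 8]), (0, [8, 7, 2, 1, 0, 7, 5, 4, 5, 2, 4, 6, 5, 4, 8, 8, 6])), ([5, 1, 8, 5, 0, 2, 3, 5, 5, 2, 4, 5, 4, 5, 5, 8, 6, 7, 6], (0, [0, 7, 6, 1, 2, 5, 8, 2, 2, 7, 4, 4, 8, 4, 7, 4, 8, 7]), (0, [0, 5, 3, 5, 7, 2, 6, 7, 4, 4, 5, 8, 6, 7])), ([4, 2, 0, 4, 0, 2, 7, 3, 2, 5, 4, 6, 5, 5, 8, 7, 6], (0, [0, 0, 5, 2,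 0, 2, 3, 8, 2, 2, 4, 8, 7, 5, 8, 8, 8]), (0, [7, 3, 8, 7, 0, 5, 7, 2, 5, 6, 5, 5, 8, 6])), ([8, 5, 8, 0, 1, 4, 8, 4, 2, 3, 5, 6, 7, 4, 4, 8, 8, 8], (0, [8, 4, 2, 1, 7, 4, 6, 2, 2, 8, 5, 6, 4, 5, 5, 6, 7, 6]), (0, [5, 6, 7, 0, 4, 5, 2, 3, 6, 5, 5, 7, 4, 4, 8, 6, 7, 6])), ([1, 3, 1, 0, 6, 4, 2, 4, 2, 6, 7, 5, 4, 4, 7], (1, [6, 4, 2, 1, 0, 6, 2, 5, 3, 8, 6, 7, 5, 5, 4, 8, 8, 8]), (1, [8, 3, 8, 0, 3, 7, 5, 4, 3, 4, 4, 6, 4, 6, 4, 8, 6])), ([5, 3, 6, 1, 0, 6, 5, 3, 7, 2, 5, 4, 5, 5, 8, 7], (0, [8, 2, 5, 8, 0, 2, 3, 5, 3, 2, 8, 5, 8, 5, 7, 5, 8]), (0, [8, 7, 2, 1, 0, 7, 5, 4, 5, 2, 4, 6, 5, 4, 8, 8, 6]))]]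

/-- reasons for the relators on the cosets -/
def mWhyT : List Why := [
  .defn,
  .defn,
  .sq (1, [0, 1, 0, 7, 0, 5, 5, 8, 3, 2, 5, 4, 4, 4, 8, 8]),
  .sq (0, [4, 7, 3, 2, 1, 2, 6, 5, 8, 2, 2, 7, 4, 5, 6, 4, 6, 7, 6]),
  .sq (0, [4, 1, 4, 0, 0, 5, 3, 8, 3, 2, 4, 8, 8, 4, 8, 7, 6]),
  .sq (0, [6, 0, 1, 1, 8, 5, 5, 7, 2, 7, 6, 4, 5, 5, 4, 8, 8, 6]),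
  .sq (0, [7, 3, 4, 1, 0, 7, 4, 3, 8, 2, 4, 5, 4, 7, 5, 7]),
  .sq (0, [5, 3, 8, 4, 0, 5, 5, 4, 4, 2, 5, 7, 6, 5, 5, 5, 8, 7]),
  .sq (1, [3, 0, 0, 5, 0, 7, 5, 2, 8, 2, 4, 8, 5, 8, 5, 6]),
  .sq (0, [4, 0, 4, 0, 7, 5, 4, 5, 2, 7, 4, 7, 5, 4, 4, 8, 6, 7]),
  .sq (0, [8, 8, 0, 5, 0, 5, 3, 3, 3, 2, 4, 5, 6, 5, 4, 4, 4, 8, 6, 7]),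
  .sq (0, [4, 6, 0, 1, 0, 5, 4, 5, 3, 4, 5, 4, 6, 7, 6]),
  .sq (0, [8, 5, 1, 7, 1, 2, 8, 4, 2, 2, 4, 5, 4, 5, 4, 5, 8, 6, 7]),
  .sq (0, [2, 8, 5, 1, 3, 8, 2, 2, 8, 5, 4, 4, 4, 4, 6, 7, 6]),
  .sq (0, [1, 4, 6, 1, 3, 4, 4, 4, 3, 4, 8, 7, 4, 8, 6, 7, 6]),
  .sq (0, [7, 0, 3, 1, 0, 5, 4, 3, 6, 3, 6, 5, 8, 5, 7, 6]),
  .sq (0, [6, 3, 8, 1, 0, 3, 4, 4, 2, 6]),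
  .sq (0, [0, 0, 8, 1, 0, 0, 7, 3, 5, 3, 2, 7, 5, 5, 8, 5, 4, 7]),
  .sq (0, [1, 1, 2, 1, 0, 3, 4, 6, 2, 3, 5, 7, 4, 6, 7, 6])]

end CfsgLib.RuGroup
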