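import Cfsg.Prelude.Def_KGroupFacts
import Cfsg.Agent.Lib.RuGroup.OutCent

/-!
Every automorphism of the Rudvalis group is inner.
-/

set_option autoImplicit false
set_option maxRecDepth 100000

namespace CfsgLib.RuGroup

attribute [local irreducible] sameBase wordImg wPow cTraceOK

open CfsgLib.CosetEnum CfsgLib.RuLattice Cfsg.Spor

/-- the element of order twenty-nine -/
noncomputable abbrev eV : RuP := el wordV

/-- the element of order fourteen -/
noncomputable abbrev eC : RuP := el wordC

/-- the central involution -/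
noncomputable abbrev eT : RuP := el wordT

/-- the other involution -/
noncomputable abbrev eS : RuP := el wordS

theorem base_facts : eV ^ 29 = 1 ∧ eV ≠ 1 ∧ eC * eV = eV ^ 4 * eC ∧ eV * eC = eC * eV ^ 22 ∧
    eS * eS = 1 ∧ eS ≠ eT ∧ eT = eC ^ 7 := by
  have h := words_ok
  simp only [wordsOK, band_eq_true] at h
  obtain ⟨⟨h1, h2⟩, ⟨h3, h4⟩, ⟨⟨-, -⟩, h5, h6⟩⟩ := h
  refine ⟨?_, ?_, ?_, ?_, ?_, el_ne small_S small_T h6, el_repWord _ _⟩
  · rw [← el_repWord, el_eq (small_repWord small_V _) small_nil h1, el_nil]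
  · rw [← el_nil]; exact el_ne small_V small_nil h2
  · rw [← el_repWord, ← el_append, ← el_append]
    exact el_eq (small_append small_C small_V) (small_append (small_repWord small_V _) small_C) h3
  · rw [← el_repWord, ← el_append, ← el_append]
    exact el_eq (small_append small_V small_C) (small_append small_C (small_repWord small_V _)) h4
  · rw [← el_append, el_eq (small_append small_S small_S) small_nil h5, el_nil]

theorem order_V : orderOf eV = 29 :=
  haveI : Fact (Nat.Prime 29) := ⟨by norm_num⟩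
  orderOf_eq_prime base_facts.1 base_facts.2.1

theorem powV_mod (k : ℕ) : eV ^ k = eV ^ (k % 29) := by
  rw [← pow_mod_orderOf, order_V]

theorem C_move (k : ℕ) : eC * eV ^ k = eV ^ (4 * k) * eC := by
  induction k with
  | zero => simp
  | succ k ih =>
    rw [pow_succ, ← mul_assoc, ih, mul_assoc, base_facts.2.2.1, ← mul_assoc, ← pow_add,
      show 4 * k + 4 = 4 * (k + 1) by ring]

theorem C_move' (m : ℕ) : eV ^ m * eC = eC * eV ^ (22 * m) := by
  induction m with
  | zero => simp
  | succ m ih =>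
    rw [pow_succ', mul_assoc, ih, ← mul_assoc, base_facts.2.2.2.1, mul_assoc, ← pow_add,
      show 22 + 22 * m = 22 * (m + 1) by ring]

theorem C_pow_move : ∀ j k : ℕ, eC ^ j * eV ^ k = eV ^ (4 ^ j * k) * eC ^ j
  | 0, k => by simp
  | j + 1, k => by
    rw [pow_succ', mul_assoc, C_pow_move j k, ← mul_assoc, C_move, mul_assoc, ← pow_succ',
      show 4 * (4 ^ j * k) = 4 ^ (j + 1) * k by ring]

theorem square_class : ∀ k < 29, k ≠ 0 → ∃ j < 14, 4 ^ j * k % 29 = 1 ∨ 4 ^ j * k % 29 = 2 := by
  decide

theorem not_sq_twentynine : ¬ 29 ^ 2 ∣ Nat.card RuP := by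
  rw [order_facts.2.1]; norm_num

/-- a cyclic group of order twenty-nine is conjugate to the one of the first letter -/
theorem conj_to_V {u : RuP} (hu : orderOf u = 29) :
    ∃ g : RuP, ∃ k < 29, k ≠ 0 ∧ g * u * g⁻¹ = eV ^ k := by
  haveI : Fact (Nat.Prime 29) := ⟨by norm_num⟩
  have hfac : (Nat.card RuP).factorization 29 = 1 := by
    refine le_antisymm ?_ ((Nat.Prime.pow_dvd_iff_le_factorization (by norm_num) Nat.card_pos.ne').1
      (by rw [pow_one, ← hu]; exact orderOf_dvd_natCard u))
    by_contra hc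
    exact not_sq_twentynine
      ((Nat.Prime.pow_dvd_iff_le_factorization (by norm_num) Nat.card_pos.ne').2 (by omega))
  have hsyl : ∀ w : RuP, orderOf w = 29 → ∃ P : Sylow 29 RuP, (P : Subgroup RuP) = Subgroup.zpowers w :=
    fun w hw => ⟨Sylow.ofCard (Subgroup.zpowers w) (by rw [Nat.card_zpowers, hw, hfac, pow_one]), rfl⟩
  obtain ⟨P, hP⟩ := hsyl _ order_V
  obtain ⟨Q, hQ⟩ := hsyl u hu
  obtain ⟨g, hg⟩ := MulAction.exists_smul_eq RuP Q P
  have hmem : g * u * g⁻¹ ∈ Subgroup.zpowers eV := by
    rw [← hP, ← hg, Sylow.coe_subgroup_smul, hQ]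
    exact ⟨u, Subgroup.mem_zpowers _, rfl⟩
  obtain ⟨k, hk, e⟩ := ((isOfFinOrder_of_finite eV).mem_zpowers_iff_mem_range_orderOf.1 hmem |>
    Finset.mem_image.1)
  rw [Finset.mem_range, order_V] at hk
  refine ⟨g, k, hk, fun h0 => ?_, e.symm⟩
  subst h0
  rw [pow_zero, eq_comm, conj_eq_one_iff] at e
  rw [e, orderOf_one] at hu
  exact absurd hu (by norm_num)

theorem exists_fix_V (φ : MulAut RuP) :
    ∃ g : RuP, g * φ eV * g⁻¹ = eV ∨ g * φ eV * g⁻¹ = eV ^ 2 := by
  obtain ⟨g, k, hk, hk0, e⟩ := conj_to_V (u := φ eV) ((orderOf_injective φ.toMonoidHom φ.injective eV).trans order_V)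
  obtain ⟨j, -, hj⟩ := square_class k hk hk0
  refine ⟨eC ^ j * g, ?_⟩
  have e2 : eC ^ j * g * φ eV * (eC ^ j * g)⁻¹ = eV ^ (4 ^ j * k % 29) := by
    rw [show eC ^ j * g * φ eV * (eC ^ j * g)⁻¹ = eC ^ j * (g * φ eV * g⁻¹) * (eC ^ j)⁻¹ by group, e,
      C_pow_move, mul_inv_cancel_right, ← powV_mod]
  rcases hj with hj | hj <;> rw [hj] at e2
  · exact Or.inl (by rw [e2, pow_one])
  · exact Or.inr e2

theorem inv_cases {x : RuP} (hx : Commute x eC) (h2 : x * x = 1) (h1 : x ≠ 1) :
    x = eT ∨ x = eS ∨ x = eT * eS := by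
  obtain ⟨j, hj, u, hu, rfl⟩ := cent_C hx
  have hu' : Small u := by
    simp only [List.mem_cons, List.not_mem_nil, or_false] at hu
    rcases hu with rfl | rfl
    exacts [small_nil, small_S]
  have hw : Small (repWord wordC j ++ u) := small_append (small_repWord small_C j) hu'
  have h := List.all_eq_true.1 (allBelow_iff.1 inv_ok j hj) u hu
  simp only [strict_eq] at h
  have hsq : sameBase (repWord wordC j ++ u ++ (repWord wordC j ++ u)) [] = true := by
    by_contra hc
    rw [Bool.not_eq_true] at hc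
    refine el_ne (small_append hw hw) small_nil (by rw [hc]; rfl) ?_
    rw [el_append, h2, el_nil]
  have hne : sameBase (repWord wordC j ++ u) [] = false := by
    rw [Bool.eq_false_iff]
    intro hc
    exact h1 (by rw [el_eq hw small_nil hc, el_nil])
  rw [hsq, hne, show band true (!false) = true from rfl, pick_true] at h
  simp only [List.any_cons, List.any_nil, Bool.or_false, Bool.or_eq_true] at h
  rcases h with h | h | h
  · exact Or.inl (el_eq hw small_T h)
  · exact Or.inr (Or.inl (el_eq hw small_S h))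
  · exact Or.inr (Or.inr ((el_eq hw (small_append small_T small_S) h).trans (el_append _ _)))

theorem el_tok (a b : List ℕ) : ∀ toks : List ℕ,
    el (tokWord a b toks) = (toks.map fun t => if t = 29 then el b else el a ^ t).prod
  | [] => el_nil
  | t :: toks => by
    rw [show tokWord a b (t :: toks) = (if t = 29 then b else repWord a t) ++ tokWord a b toks from rfl,
      el_append, el_tok a b toks, List.map_cons, List.prod_cons]
    congr 1
    split <;> [rfl; exact el_repWord a t]

theorem small_tok {a b : List ℕ} (ha : Small a) (hb : Small b) : ∀ toks, Small (tokWord a b toks)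
  | [] => small_nil
  | t :: toks => by
    refine small_append ?_ (small_tok ha hb toks)
    show Small (if t = 29 then b else repWord a t)
    split
    exacts [hb, small_repWord ha t]

attribute [local irreducible] el tokWord repWord

theorem map_tok (φ : MulAut RuP) {a b a' b' : List ℕ} (ha : φ (el a) = el a') (hb : φ (el b) = el b')
    (toks : List ℕ) : φ (el (tokWord a b toks)) = el (tokWord a' b' toks) := by
  rw [el_tok, el_tok, map_list_prod, List.map_map]
  refine congrArg List.prod (List.map_congr_left fun t _ => ?_)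
  simp only [Function.comp_apply]
  split
  exacts [hb, by rw [map_pow, ha]]

/-- an automorphism fixing two generators is trivial -/
theorem eq_one_of_gens (φ : MulAut RuP) (hV : φ eV = eV) (hS : φ eS = eS) : φ = 1 := by
  have hg : ∀ g < 9, φ (gP g) = gP g := fun g hg => by
    have e := el_eq (small_tok small_V small_S _) (w := [g])
      (by intro x hx; rw [List.mem_singleton] at hx; omega) (allBelow_iff.1 gens_ok g hg)
    have h1 : el [g] = gP g := Subtype.ext (by simp [el, gP])
    rw [← h1, ← e, map_tok φ hV hS]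
  let K : Subgroup RuP := φ.toMonoidHom.eqLocus (MonoidHom.id RuP)
  have hK : levGrp fullLevels ≤ K.map RuP.subtype := by
    refine (Subgroup.closure_le _).2 ?_
    rintro _ ⟨g, hgm, rfl⟩
    exact ⟨gP g, hg g ((full_letters g).1 hgm), rfl⟩
  rw [order_facts.2.2.2.2] at hK
  refine MulEquiv.ext fun x => ?_
  obtain ⟨y, hy, e⟩ := hK x.2
  rw [show x = y from (Subtype.ext e).symm]
  exact hy

theorem all_inner (φ : MulAut RuP) : ∃ g : RuP, φ = MulAut.conj g := by
  obtain ⟨g₁, h₁⟩ := exists_fix_V φ
  set ψ := MulAut.conj g₁ * φ with hψ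
  have hV : ψ eV = eV ∨ ψ eV = eV ^ 2 := h₁
  -- the image of the element of order fourteen
  obtain ⟨i, hi⟩ : ∃ i : ℕ, ψ eC = eC * eV ^ i := by
    have h := congrArg ψ base_facts.2.2.1
    rw [map_mul, map_mul, map_pow] at h
    have hc : Commute (eC⁻¹ * ψ eC) eV := by
      rcases hV with hV | hV <;> rw [hV] at h
      · show eC⁻¹ * ψ eC * eV = eV * (eC⁻¹ * ψ eC)
        rw [mul_assoc, h, ← mul_assoc, inv_mul_eq_iff_eq_mul.2 (show eV ^ 4 = eC * (eV * eC⁻¹) by
          rw [← mul_assoc, base_facts.2.2.1, mul_inv_cancel_right]), mul_assoc]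
      · have hc2 : Commute (eC⁻¹ * ψ eC) (eV ^ 2) := by
          show eC⁻¹ * ψ eC * eV ^ 2 = eV ^ 2 * (eC⁻¹ * ψ eC)
          rw [mul_assoc, h, ← mul_assoc, inv_mul_eq_iff_eq_mul.2 (show (eV ^ 2) ^ 4 = eC * (eV ^ 2 * eC⁻¹) by
            rw [← mul_assoc, C_move, mul_inv_cancel_right, ← pow_mul]), mul_assoc]
        have h15 := hc2.pow_right 15
        rwa [← pow_mul, powV_mod, show 2 * 15 % 29 = 1 from rfl, pow_one] at h15
    obtain ⟨i, hi⟩ := cent_V hc
    exact ⟨i, by rw [← hi, mul_inv_cancel_left]⟩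
  set χ := MulAut.conj (eV ^ (11 * i)) * ψ with hχ
  have hχV : χ eV = eV ∨ χ eV = eV ^ 2 := by
    have e : ∀ a : ℕ, MulAut.conj (eV ^ (11 * i)) (eV ^ a) = eV ^ a := fun a => by
      rw [MulAut.conj_apply, mul_inv_eq_iff_eq_mul, ← pow_add, ← pow_add, add_comm]
    rcases hV with hV | hV
    · exact Or.inl (by rw [hχ, MulAut.mul_apply, hV]; simpa using e 1)
    · exact Or.inr (by rw [hχ, MulAut.mul_apply, hV]; exact e 2)
  have hχC : χ eC = eC := by
    rw [hχ, MulAut.mul_apply, hi, MulAut.conj_apply, mul_inv_eq_iff_eq_mul, ← mul_assoc, C_move',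
      mul_assoc, ← pow_add, powV_mod (22 * (11 * i) + i), powV_mod (11 * i)]
    rw [show (22 * (11 * i) + i) % 29 = 11 * i % 29 by omega]
  have hχT : χ eT = eT := by rw [base_facts.2.2.2.2.2.2, map_pow, hχC]
  have hSne : eS ≠ 1 := fun e => el_ne small_S small_nil s_ne (e.trans el_nil.symm)
  have hS : χ eS = eS ∨ χ eS = eT * eS := by
    rcases inv_cases (x := χ eS) (by rw [← hχC]; exact comm_C_S.map χ.toMonoidHom)
      (by rw [← map_mul, base_facts.2.2.2.2.1, map_one])
      (by rw [Ne, EmbeddingLike.map_eq_one_iff]; exact hSne) with h | h | h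
    · exact absurd (χ.injective (h.trans hχT.symm)) base_facts.2.2.2.2.2.1
    · exact Or.inl h
    · exact Or.inr h
  have hone : χ = 1 := by
    have hr := rel_ok
    simp only [relOK, band_eq_true] at hr
    have hrel := el_eq (small_tok small_V small_S relToks) small_nil hr.1
    have hTS : eT * eS = el (wordT ++ wordS) := (el_append _ _).symm
    have hV2 : eV ^ 2 = el (repWord wordV 2) := (el_repWord _ _).symm
    rw [hTS] at hS
    rw [hV2] at hχV
    have bad : ∀ {a b : List ℕ}, Small a → Small b → (!(sameBase (tokWord a b relToks) [])) = true →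
        χ eV = el a → χ eS = el b → False := fun {a b} ha hb hchk h1 h2 => by
      have e := map_tok χ h1 h2 relToks
      rw [hrel, el_nil, map_one] at e
      exact el_ne (small_tok ha hb _) small_nil hchk (e.symm.trans el_nil.symm)
    rcases hχV with hv | hv <;> rcases hS with hs | hs
    · exact eq_one_of_gens χ hv hs
    · exact (bad small_V (small_append small_T small_S) hr.2.1 hv hs).elim
    · exact (bad (small_repWord small_V 2) small_S hr.2.2.1 hv hs).elim
    · exact (bad (small_repWord small_V 2) (small_append small_T small_S) hr.2.2.2 hv hs).elim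
  refine ⟨(eV ^ (11 * i) * g₁)⁻¹, ?_⟩
  rw [map_inv, map_mul, eq_inv_iff_mul_eq_one]
  have : MulAut.conj (eV ^ (11 * i)) * (MulAut.conj g₁ * φ) = 1 := hone
  rw [← mul_assoc] at this
  exact mul_eq_one_comm.1 this

/-- a group isomorphic to one whose automorphisms are inner has trivial outer automorphism group -/
theorem card_out_eq_one {G H : Type*} [Group G] [Group H] (e : G ≃* H)
    (h : ∀ φ : MulAut H, ∃ g : H, φ = MulAut.conj g) : Nat.card (Cfsg.Out G) = 1 := by
  have hall : ∀ φ : MulAut G, ∃ g : G, MulAut.conj g = φ := fun φ => by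
    obtain ⟨g, hg⟩ := h (MulAut.congr e φ)
    refine ⟨e.symm g, MulEquiv.ext fun x => ?_⟩
    have := DFunLike.congr_fun hg (e x)
    simp only [MulAut.congr, MulEquiv.coe_mk, Equiv.coe_fn_mk, MulEquiv.trans_apply,
      MulEquiv.symm_apply_apply, MulAut.conj_apply] at this
    apply e.injective
    rw [this]
    simp
  rw [Nat.card_eq_one_iff_unique]
  refine ⟨⟨fun a b => ?_⟩, ⟨1⟩⟩
  obtain ⟨a, rfl⟩ := QuotientGroup.mk_surjective a
  obtain ⟨b, rfl⟩ := QuotientGroup.mk_surjective b
  rw [QuotientGroup.eq]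
  obtain ⟨g, hg⟩ := hall (a⁻¹ * b)
  exact ⟨g, hg⟩

theorem ru_out : Nat.card (Cfsg.Out Cfsg.Spor.Ru) = 1 := card_out_eq_one ruEquiv all_inner

end CfsgLib.RuGroup
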