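import Mathlib

/-!
Words and traces for the outer automorphism group.
-/

set_option autoImplicit false
set_option linter.style.longLine false

namespace CfsgLib.RuGroup

/-- a word of order fourteen normalising the first letter -/
def wordC : List ℕ := [2, 6, 0, 0, 3, 3, 3, 4, 2, 4, 6, 7, 6]

/-- an involution commuting with it -/
def wordS : List ℕ := [3, 1, 1, 2, 0, 0, 7, 6, 3, 3, 5, 4, 5, 5, 5, 4, 6, 7, 6]

/-- the remaining letters in the first letter and the involution -/
def letterToks : List (List ℕ) := [[1], [15, 29, 26, 29, 5, 29, 1, 29, 7, 29, 23, 29, 16, 29, 25], [24, 29, 20, 29, 27, 29, 28, 29, 22, 29, 21, 29, 5, 29, 8], [28, 29, 24, 29, 19, 29, 5, 29, 3, 29, 18, 29, 26, 29, 28], [28, 29, 26, 29, 25, 29, 17, 29, 17, 29, 1, 29, 18, 29, 12], [14, 29, 19, 29, 14, 29, 20, 29, 12, 29, 5, 29, 28, 29, 14], [28, 29, 24, 29, 12, 29, 7, 29, 24, 29, 8, 29, 27, 29, 10], [24, 29, 18, 29, 23, 29, 21, 29, 9, 29, 10, 29, 25, 29, 14], [25, 29, 19, 29, 13, 29, 19, 29, 9, 29, 7, 29, 24, 29, 16]]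

/-- a relation of the two generators -/
def relToks : List ℕ := [20, 29, 23, 29, 25, 29, 6, 29, 29, 1, 29, 24, 29, 16, 29, 1, 29, 0]

/-- known images and the points they determine -/
def traceVFix : List (ℕ × ℕ) × List (ℕ × ℕ) :=
  ([(0, 0), (1132, 1132), (566, 566), (56, 56), (1422, 1422), (820, 820), (302, 302), (3836, 3836), (259, 259), (1487, 1487), (4053, 4053), (2303, 2303), (1935, 1935), (3383, 3383), (126, 126), (3495, 3495), (3119, 3119), (3311, 3311), (830, 830), (2975, 2975), (1340, 1340), (1363, 1363), (3465, 3465), (2329, 2329), (3206, 3206), (653, 653), (3504, 3504), (1467, 1467), (737, 737)], [(0, 0), (65, 65), (2, 2), (1, 1)])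

/-- known images and the points they determine -/
def traceVNone : List (ℕ × ℕ) × List (ℕ × ℕ) :=
  ([(0, 13), (1132, 1112), (566, 1583), (56, 2492), (1422, 269), (820, 2551), (302, 549), (3836, 135), (259, 4001), (1487, 3046), (4053, 3124), (2303, 2118), (1935, 592), (3383, 3191), (126, 3019), (3495, 615), (3119, 3277), (3311, 1832), (830, 1521), (2975, 698), (1340, 1966), (1363, 630), (3465, 2006), (2329, 58), (3206, 360), (653, 2692), (3504, 2399), (1467, 3572), (737, 2717)], [(0, 13), (65, 4060)])

/-- known images and the points they determine -/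
def traceCFix : List (ℕ × ℕ) × List (ℕ × ℕ) :=
  ([(5, 5), (3517, 3517), (542, 542), (2767, 2767), (3711, 3711), (2861, 2861), (341, 341), (404, 404), (755, 755), (1242, 1242), (2901, 2901), (1086, 1086), (2468, 2468), (3085, 3085)], [(0, 0), (65, 65), (2, 2), (1, 1)])

/-- known images and the points they determine -/
def traceCNoneA : List (ℕ × ℕ) × List (ℕ × ℕ) :=
  ([(5, 142), (3517, 2924), (542, 1634), (2767, 717), (3711, 1796), (2861, 3400), (341, 2976), (404, 2013), (755, 2508), (1242, 3588), (2901, 3853), (1086, 2260), (2468, 2396), (3085, 2086)], [(0, 3927), (65, 4060)])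

/-- known images and the points they determine -/
def traceCNoneB : List (ℕ × ℕ) × List (ℕ × ℕ) :=
  ([(5, 243), (3517, 3343), (542, 2249), (2767, 3488), (3711, 2447), (2861, 1551), (341, 2610), (404, 3805), (755, 295), (1242, 3296), (2901, 2804), (1086, 2122), (2468, 1820), (3085, 2274)], [(0, 2630), (65, 4060)])

end CfsgLib.RuGroup
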