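import Cfsg.Agent.Lib.RuGroup.LineDefs
import Cfsg.Agent.Lib.RuGroup.OutData

/-!
Executable checks for the outer automorphism group.
-/

set_option autoImplicit false

namespace CfsgLib.RuGroup

open CfsgLib.CosetEnum

/-- the Hermitian product of two lines vanishes -/
noncomputable def orth (a b : ℕ) : Bool :=
  strict (repOf a) fun r => strict (repOf b) fun s =>
  band (Nat.beq (ipTot r s) (Nat.mul (nat_lit 2) (ipNeg r s)))
    (strict (img (nat_lit 9) s) fun s' => Nat.beq (ipTot r s') (Nat.mul (nat_lit 2) (ipNeg r s')))

/-- the images of a line under the powers of a word -/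
noncomputable def wPow (w : List ℕ) (i x : ℕ) : ℕ :=
  Nat.rec x (fun _ ih => wordImg w ih) i

/-- lazily, all numbers below `n` -/
noncomputable def allBelow (f : ℕ → Bool) (n : ℕ) : Bool :=
  Nat.rec true (fun i ih => band ih (f i)) n

/-- the products with the powers agree -/
noncomputable def filtOK (w : List ℕ) (n p y : ℕ) : Bool :=
  allBelow (fun i => orth y (wPow w i y) == orth p (wPow w i p)) n

/-- a line is an image of a representative -/
noncomputable def inOrbs (w : List ℕ) (n : ℕ) (reps : List ℕ) (y : ℕ) : Bool :=
  reps.any fun r => (List.range n).any fun j => Nat.beq (wPow w j r) y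

/-- only images of the representatives survive the filter -/
noncomputable def survOK (w : List ℕ) (m n p : ℕ) (reps : List ℕ) (y : ℕ) : Bool :=
  pick (ltB y (nat_lit 4060)) (pick (filtOK w m p y) (inOrbs w n reps y) true) true

/-- the same products with the known images -/
noncomputable def pairsMatch (d : List (ℕ × ℕ)) (b z : ℕ) : Bool :=
  List.rec true (fun q _ ih => band (orth q.2 z == orth q.1 b) ih) d

/-- only the stated line has the products -/
noncomputable def stepOK (d : List (ℕ × ℕ)) (b b' z : ℕ) : Bool :=
  pick (ltB z (nat_lit 4060))
    (pick (Nat.beq z b') true (pick (pairsMatch d b z) false true)) true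

/-- a list of determined lines -/
noncomputable def traceOK : List (ℕ × ℕ) → List (ℕ × ℕ) → Bool := fun d st =>
  List.rec (motive := fun _ => List (ℕ × ℕ) → Bool) (fun _ => true)
    (fun q _ ih d => band (band (ltB q.1 (nat_lit 4060))
      (allUp (stepOK d q.1 q.2) (nat_lit 12) (nat_lit 0))) (ih (q :: d))) st d

/-- the known images are powers of a word applied to two lines -/
noncomputable def powPairsOK (w : List ℕ) (n p q : ℕ) (d : List (ℕ × ℕ)) : Bool :=
  band (Nat.beq d.length n) (allBelow (fun i =>
    band (Nat.beq (wPow w i p) (d.getD i (0, 0)).1) (Nat.beq (wPow w i q) (d.getD i (0, 0)).2)) n)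

/-- a trace: start, powers and steps -/
noncomputable def cTraceOK (w : List ℕ) (n p q : ℕ) (tr : List (ℕ × ℕ) × List (ℕ × ℕ)) : Bool :=
  band (powPairsOK w n p q tr.1) (traceOK tr.1 tr.2)

/-- two words agree on the base points -/
noncomputable def sameBase (u w : List ℕ) : Bool :=
  fullLevels.all fun L => Nat.beq (wordImg u L.pt) (wordImg w L.pt)

/-- repeated word -/
def repWord (a : List ℕ) (t : ℕ) : List ℕ := (List.replicate t a).flatten

/-- substitution of words into tokens: a power of the first, or, for twenty-nine, the second -/
def tokWord (a b : List ℕ) (toks : List ℕ) : List ℕ :=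
  toks.flatMap fun t => if t = 29 then b else repWord a t

/-- the letter -/
def wordV : List ℕ := [0]

/-- the central involution of the centraliser -/
def wordT : List ℕ := repWord wordC 7

/-- relations among the chosen words -/
noncomputable def wordsOK : Bool :=
  band (band (sameBase (repWord wordV 29) []) (!(sameBase wordV [])))
    (band (band (sameBase (wordC ++ wordV) (repWord wordV 4 ++ wordC))
        (sameBase (wordV ++ wordC) (wordC ++ repWord wordV 22)))
      (band (band (sameBase (wordC ++ wordS) (wordS ++ wordC)) (sameBase (repWord wordC 14) []))
        (band (sameBase (wordS ++ wordS) []) (!(sameBase wordS wordT)))))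

/-- the involutions among the listed products -/
noncomputable def invOK : Bool :=
  allBelow (fun j => [[], wordS].all fun u =>
    strict j fun j => pick (band (sameBase (repWord wordC j ++ u ++ (repWord wordC j ++ u)) [])
      (!(sameBase (repWord wordC j ++ u) [])))
      ([wordT, wordS, wordT ++ wordS].any fun t => sameBase (repWord wordC j ++ u) t) true) 14

/-- the letters are products of the two -/
noncomputable def gensOK : Bool :=
  allBelow (fun g => sameBase (tokWord wordV wordS (letterToks.getD g [])) [g]) 9

/-- the relation separates the other possible images -/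
noncomputable def relOK : Bool :=
  band (sameBase (tokWord wordV wordS relToks) [])
    (band (!(sameBase (tokWord wordV (wordT ++ wordS) relToks) []))
      (band (!(sameBase (tokWord (repWord wordV 2) wordS relToks) []))
        (!(sameBase (tokWord (repWord wordV 2) (wordT ++ wordS) relToks) []))))

/-- tokens are at most twenty-nine and letters are small -/
def outLetters : Bool :=
  (wordC.all fun g => decide (g < 10)) && (wordS.all fun g => decide (g < 10))

end CfsgLib.RuGroup
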