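import Cfsg.Agent.Lib.RuGroup.Simple

/-!
The point stabilizer on the 4060 lines has a simple subgroup of index two.
-/

set_option autoImplicit false
set_option maxRecDepth 100000

namespace CfsgLib.RuGroup

open CfsgLib.CosetEnum CfsgLib.RuLattice Cfsg.Spor

/-- the subgroup of index two of the point stabilizer -/
noncomputable def halfGrp : Subgroup (Equiv.Perm (Fin 4060)) :=
  Subgroup.closure (lineGen '' {g | g ∈ [2, 3, 4, 5, 6, 7]})

/-- the stabilizer of the first point -/
noncomputable def stabZero : Subgroup (Equiv.Perm (Fin 4060)) :=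
  RuP ⊓ MulAction.stabilizer (Equiv.Perm (Fin 4060)) (0 : Fin 4060)

theorem half_levGrp : levGrp halfLevels = halfGrp := rfl

theorem card_stabZero : Nat.card stabZero = 35942400 := by
  haveI := ruP_pretransitive
  have h := Subgroup.index_mul_card (MulAction.stabilizer RuP (0 : Fin 4060))
  rw [MulAction.index_stabilizer_of_transitive, Nat.card_fin, order_facts.2.1] at h
  have e : Nat.card stabZero = Nat.card (MulAction.stabilizer RuP (0 : Fin 4060)) :=
    Nat.card_congr
      { toFun := fun f => ⟨⟨f.1, f.2.1⟩, f.2.2⟩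
        invFun := fun f => ⟨f.1.1, f.1.2, f.2⟩
        left_inv := fun _ => rfl
        right_inv := fun _ => rfl }
  omega

theorem gen_stab {g : ℕ} (hg : g ∈ [2, 3, 4, 5, 6, 7, 8]) : lineGen g ∈ stabZero := by
  refine ⟨lineGen_mem g, Fin.ext ?_⟩
  have hg10 : g < 10 := by
    simp only [List.mem_cons, List.not_mem_nil, or_false] at hg
    omega
  exact (lineGen_apply hg10 0).trans (stab_letters_fix g hg)

theorem half_le_stab : halfGrp ≤ stabZero := by
  refine (Subgroup.closure_le _).2 ?_
  rintro _ ⟨g, hg, rfl⟩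
  refine gen_stab ?_
  simp only [Set.mem_ofPred_eq, List.mem_cons, List.not_mem_nil, or_false] at hg ⊢
  omega

/-- the transversal element of a line -/
noncomputable def transPerm (y : ℕ) : Equiv.Perm (Fin 4060) := ((transWord 7 y).map lineGen).prod

theorem transImg_eq : ∀ d y p, transImg d y p = wordImg (transWord d y) p
  | 0, _, _ => rfl
  | d + 1, y, p => by
    show pick (Nat.beq y 65) p (strict (backTab.at' 16 y) fun e =>
      strict (transImg d (e / 16) p) fun q => lineImg (e % 16) q) = wordImg (pick (Nat.beq y 65) []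
        ((backTab.at' 16 y) % 16 :: transWord d ((backTab.at' 16 y) / 16))) p
    cases Nat.beq y 65
    · rw [pick_false, pick_false, strict_eq, strict_eq, transImg_eq d]
      rfl
    · rfl

theorem schreier_at {y : ℕ} (hy : y < 4060) (hm : half0Mask.testBit y = true) :
    transImg 7 y 65 = y ∧ (∀ g ∈ transWord 7 y, g ∈ [2, 3, 4, 5, 6, 7]) ∧
      ∀ j < 6, ∃ z, lineImg (2 + j) y < 4060 ∧ half0Mask.testBit (lineImg (2 + j) y) = true ∧ z < 4060 ∧
        halfA.testBit z = true ∧
        transImg 7 (lineImg (2 + j) y) z = lineImg (2 + j) (transImg 7 y 1) := by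
  have h := allUp_spec schreier_ok y (Nat.zero_le _) (by omega)
  simp only [schreierOK] at h
  rw [show ltB y (nat_lit 4060) = true from ltB_iff.mpr hy, pick_true, beq_bit, hm, pick_true] at h
  simp only [band_eq_true, List.all_eq_true, ltB_iff] at h
  refine ⟨Nat.eq_of_beq_eq_true h.1, fun g hg => ?_, fun j hj => ?_⟩
  · have := h.2.1 g hg
    simp only [List.mem_cons, List.not_mem_nil, or_false]
    omega
  · have h' := allUp_spec h.2.2 j (Nat.zero_le _) (by omega)
    rw [show ltB j (nat_lit 6) = true from ltB_iff.mpr hj, pick_true] at h'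
    simp only [strict_eq, band_eq_true, ltB_iff, beq_bit] at h'
    exact ⟨_, lineImg_lt (by omega) hy, h'.1.2, h'.1.1, h'.2.1, Nat.eq_of_beq_eq_true h'.2.2⟩

theorem transPerm_apply {y : ℕ} (hy : y < 4060) (hm : half0Mask.testBit y = true) (l : Fin 4060) :
    ((transPerm y l : Fin 4060) : ℕ) = transImg 7 y l.val := by
  rw [transImg_eq]
  refine word_apply _ (fun g hg => ?_) l
  have := (schreier_at hy hm).2.1 g hg
  simp only [List.mem_cons, List.not_mem_nil, or_false] at this
  omega

theorem transPerm_mem {y : ℕ} (hy : y < 4060) (hm : half0Mask.testBit y = true) : transPerm y ∈ halfGrp :=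
  list_prod_mem fun x hx => by
    obtain ⟨g, hg, rfl⟩ := List.mem_map.1 hx
    exact Subgroup.subset_closure ⟨g, (schreier_at hy hm).2.1 g hg, rfl⟩

/-- keeping the halves, or exchanging them -/
def KeepOrSwap (f : Equiv.Perm (Fin 4060)) : Prop :=
  (∀ x : Fin 4060, halfA.testBit x.val = true → halfA.testBit (f x).val = true) ∧
      (∀ x : Fin 4060, halfB.testBit x.val = true → halfB.testBit (f x).val = true) ∨
    (∀ x : Fin 4060, halfA.testBit x.val = true → halfB.testBit (f x).val = true) ∧
      (∀ x : Fin 4060, halfB.testBit x.val = true → halfA.testBit (f x).val = true)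

theorem keepOrSwap_pair {f : Equiv.Perm (Fin 4060)}
    (hf : f ∈ Subgroup.closure (lineGen '' {g | g ∈ [4, 5, 6, 7, 8]})) : KeepOrSwap f := by
  rw [← Subgroup.mem_toSubmonoid, Subgroup.closure_toSubmonoid_of_finite] at hf
  induction hf using Submonoid.closure_induction with
  | mem y hy =>
    obtain ⟨g, hg, rfl⟩ := hy
    have h := List.all_eq_true.1 half_ok g hg
    have hg10 : g < 10 := by
      simp only [Set.mem_ofPred_eq, List.mem_cons, List.not_mem_nil, or_false] at hg
      omega
    have key : ∀ x : Fin 4060,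
        (halfA.testBit x.val = true → (pick (Nat.beq g 8) halfB halfA).testBit (lineGen g x).val = true) ∧
        (halfB.testBit x.val = true → (pick (Nat.beq g 8) halfA halfB).testBit (lineGen g x).val = true) := by
      intro x
      have e := allUp_spec h x.val (Nat.zero_le _) (by have := x.isLt; omega)
      simp only [halfOK] at e
      rw [show ltB x.val (nat_lit 4060) = true from ltB_iff.mpr x.isLt, pick_true] at e
      simp only [strict_eq, band_eq_true, beq_bit] at e
      rw [lineGen_apply hg10]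
      refine ⟨fun hx => ?_, fun hx => ?_⟩
      · have := e.1
        rwa [hx, pick_true] at this
      · have := e.2
        rwa [hx, pick_true] at this
    cases hb : Nat.beq g 8
    · exact Or.inl ⟨fun x hx => by simpa [hb] using (key x).1 hx, fun x hx => by simpa [hb] using (key x).2 hx⟩
    · exact Or.inr ⟨fun x hx => by simpa [hb] using (key x).1 hx, fun x hx => by simpa [hb] using (key x).2 hx⟩
  | one => exact Or.inl ⟨fun _ h => h, fun _ h => h⟩
  | mul a b _ _ ha hb =>
    rcases ha with ⟨a1, a2⟩ | ⟨a1, a2⟩ <;> rcases hb with ⟨b1, b2⟩ | ⟨b1, b2⟩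
    · exact Or.inl ⟨fun x h => a1 _ (b1 x h), fun x h => a2 _ (b2 x h)⟩
    · exact Or.inr ⟨fun x h => a2 _ (b1 x h), fun x h => a1 _ (b2 x h)⟩
    · exact Or.inr ⟨fun x h => a1 _ (b1 x h), fun x h => a2 _ (b2 x h)⟩
    · exact Or.inl ⟨fun x h => a2 _ (b1 x h), fun x h => a1 _ (b2 x h)⟩

theorem full_shape : ∃ L0 L1 tl, fullLevels = L0 :: L1 :: tl ∧ L0.pt = 0 ∧ L1.pt = 65 ∧
    levGrp tl = Subgroup.closure (lineGen '' {g | g ∈ [4, 5, 6, 7, 8]}) :=
  ⟨_, _, _, rfl, rfl, rfl, rfl⟩

theorem pair_stab {f : Equiv.Perm (Fin 4060)} (hf : f ∈ RuP) (h0 : f 0 = 0)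
    (h65 : f (⟨65, by norm_num⟩ : Fin 4060) = ⟨65, by norm_num⟩) :
    f ∈ Subgroup.closure (lineGen '' {g | g ∈ [4, 5, 6, 7, 8]}) := by
  obtain ⟨L0, L1, tl, e, p0, p1, etl⟩ := full_shape
  have hn := full_facts.1
  have hg := full_facts.2
  have hc := full_card
  have hf' : f ∈ levGrp fullLevels := by rw [order_facts.2.2.2.2]; exact hf
  rw [e] at hn hg hc hf'
  obtain ⟨c1, t1⟩ := stab_eq_tail hn hg hc
  have f1 : f ∈ levGrp (L1 :: tl) := t1 f hf' (by
    rw [show (⟨L0.pt, (grow_facts (hg L0 List.mem_cons_self)).1⟩ : Fin 4060) = 0 from Fin.ext p0, h0, p0]; rfl)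
  obtain ⟨-, t2⟩ := stab_eq_tail (nest_cons hn).1 (fun L hL => hg L (List.mem_cons_of_mem _ hL)) c1
  rw [← etl]
  refine t2 f f1 ?_
  rw [show (⟨L1.pt, (grow_facts (hg L1 (List.mem_cons_of_mem _ List.mem_cons_self))).1⟩ : Fin 4060) =
    ⟨65, by norm_num⟩ from Fin.ext p1, h65, p1]

/-- every transported element keeps the first half -/
def KeepsA (f : Equiv.Perm (Fin 4060)) : Prop :=
  ∀ y : Fin 4060, half0Mask.testBit y.val = true → half0Mask.testBit (f y).val = true ∧
    ∀ z : Fin 4060, halfA.testBit z.val = true →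
      halfA.testBit (((transPerm (f y).val)⁻¹ * f * transPerm y.val) z).val = true

theorem halves_disjoint {x : ℕ} (ha : halfA.testBit x = true) (hb : halfB.testBit x = true) : False := by
  have h := half_point
  simp only [Bool.and_eq_true] at h
  have e := congrArg (fun n => Nat.testBit n x) (Nat.eq_of_beq_eq_true h.2)
  simp [Nat.testBit_and, ha, hb] at e

theorem keepsA_half {f : Equiv.Perm (Fin 4060)} (hf : f ∈ halfGrp) : KeepsA f := by
  rw [halfGrp, ← Subgroup.mem_toSubmonoid, Subgroup.closure_toSubmonoid_of_finite] at hf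
  induction hf using Submonoid.closure_induction with
  | mem x hx =>
    obtain ⟨g, hg, rfl⟩ := hx
    simp only [Set.mem_ofPred_eq, List.mem_cons, List.not_mem_nil, or_false] at hg
    intro y hy
    obtain ⟨e65, -, hj⟩ := schreier_at y.isLt hy
    obtain ⟨z, hlt, hmask, hz, hzA, hzeq⟩ := hj (g - 2) (by omega)
    rw [show 2 + (g - 2) = g by omega] at hlt hmask hzeq
    have ey : (lineGen g y).val = lineImg g y.val := lineGen_apply (by omega) y
    refine ⟨ey ▸ hmask, fun x hx => ?_⟩
    set u := (transPerm (lineGen g y).val)⁻¹ * lineGen g * transPerm y.val with hu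
    have hm' : half0Mask.testBit (lineGen g y).val = true := ey ▸ hmask
    have hT : transPerm y.val ∈ halfGrp := transPerm_mem y.isLt hy
    have hT' : transPerm (lineGen g y).val ∈ halfGrp := transPerm_mem (lineGen g y).isLt hm'
    have hmem : u ∈ stabZero := mul_mem (mul_mem (inv_mem (half_le_stab hT'))
      (gen_stab (by simp only [List.mem_cons, List.not_mem_nil, or_false]; omega))) (half_le_stab hT)
    have p65 : ∀ (w : Fin 4060) (hw : half0Mask.testBit w.val = true),
        transPerm w.val ⟨65, by norm_num⟩ = w := fun w hw =>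
      Fin.ext ((transPerm_apply w.isLt hw _).trans (schreier_at w.isLt hw).1)
    have h65 : u ⟨65, by norm_num⟩ = ⟨65, by norm_num⟩ := by
      rw [hu, Equiv.Perm.mul_apply, Equiv.Perm.mul_apply, p65 y hy, Equiv.Perm.inv_eq_iff_eq,
        p65 (lineGen g y) hm']
    have hk := keepOrSwap_pair (pair_stab hmem.1 hmem.2 h65)
    have hu1 : u (⟨1, by norm_num⟩ : Fin 4060) = ⟨z, hz⟩ := by
      rw [hu, Equiv.Perm.mul_apply, Equiv.Perm.mul_apply, Equiv.Perm.inv_eq_iff_eq]
      refine Fin.ext ?_
      rw [lineGen_apply (by omega), transPerm_apply y.isLt hy, transPerm_apply (lineGen g y).isLt hm', ey]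
      exact hzeq.symm
    have h1A : halfA.testBit 1 = true := by
      have h := half_point
      simp only [Bool.and_eq_true] at h
      exact h.1.1
    rcases hk with hk | hk
    · exact hk.1 x hx
    · have := hk.1 ⟨1, by norm_num⟩ h1A
      rw [hu1] at this
      exact (halves_disjoint hzA this).elim
  | one => exact fun y hy => ⟨hy, fun z hz => by simpa using hz⟩
  | mul a b _ _ ha hb =>
    intro y hy
    obtain ⟨h1, h2⟩ := hb y hy
    obtain ⟨h3, h4⟩ := ha (b y) h1
    refine ⟨h3, fun z hz => ?_⟩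
    have := h4 _ (h2 z hz)
    simpa [Equiv.Perm.mul_apply] using this

theorem outer_not_mem : lineGen 8 ∉ halfGrp := by
  intro h
  obtain ⟨-, h2⟩ := keepsA_half h ⟨65, by norm_num⟩ (by decide +kernel)
  have e65 : lineGen 8 (⟨65, by norm_num⟩ : Fin 4060) = ⟨65, by norm_num⟩ := by
    refine Fin.ext ?_
    rw [lineGen_apply (by norm_num)]
    decide +kernel
  have et : transPerm 65 = 1 := rfl
  have hp := half_point
  simp only [Bool.and_eq_true] at hp
  have := h2 ⟨1, by norm_num⟩ hp.1.1
  rw [e65] at this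
  simp only [et, inv_one, one_mul, mul_one] at this
  rw [lineGen_apply (by norm_num)] at this
  exact halves_disjoint this hp.1.2

theorem card_halfGrp : Nat.card halfGrp = 17971200 := by
  have hlow : 17971200 ≤ Nat.card halfGrp := by
    rw [← half_levGrp]
    exact le_trans (le_of_eq (by rfl : 17971200 = levSize halfLevels)) (levSize_le half_facts.1 half_facts.2)
  have hdvd : Nat.card halfGrp ∣ 35942400 := card_stabZero ▸ Subgroup.card_dvd_of_le half_le_stab
  have hne : Nat.card halfGrp ≠ 35942400 := fun e => outer_not_mem (by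
    rw [Subgroup.eq_of_le_of_card_ge half_le_stab (by rw [card_stabZero, e])]
    exact gen_stab (by simp))
  obtain ⟨c, hc⟩ := hdvd
  rcases Nat.lt_or_ge c 2 with h | h
  · interval_cases c <;> omega
  · nlinarith

/-- the orbit of length 1755 -/
abbrev SubPts : Type := {x : Fin 4060 // half0Mask.testBit x.val = true}

theorem half_keeps {f : Equiv.Perm (Fin 4060)} (hf : f ∈ halfGrp) (x : SubPts) :
    half0Mask.testBit (f x.1).val = true := (keepsA_half hf x.1 x.2).1

noncomputable instance halfAction : MulAction halfGrp SubPts where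
  smul f x := ⟨f.1 x.1, half_keeps f.2 x⟩
  one_smul _ := Subtype.ext rfl
  mul_smul _ _ _ := Subtype.ext rfl

theorem half_smul (f : halfGrp) (x : SubPts) : ((f • x : SubPts) : Fin 4060) = f.1 x.1 := rfl

theorem card_subPts : Fintype.card SubPts = 1755 := by
  have h := (grow_facts (half_facts.2 ⟨65, [2, 3, 4, 5, 6, 7], 1755, half0Tree, half0Mask⟩ (by simp [halfLevels]))).2.2
  simp only at h
  rw [Fintype.card_subtype, ← Finset.card_map Fin.valEmbedding, ← h]
  congr 1

theorem half_level_orbit (y : Fin 4060) (hy : half0Mask.testBit y.val = true) :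
    ∃ f ∈ halfGrp, f (⟨65, by norm_num⟩ : Fin 4060) = y :=
  lev_orbit (L := ⟨65, [2, 3, 4, 5, 6, 7], 1755, half0Tree, half0Mask⟩)
    (half_facts.2 _ (by simp [halfLevels])) y hy

instance halfPretransitive : MulAction.IsPretransitive halfGrp SubPts := by
  refine ⟨fun x y => ?_⟩
  obtain ⟨f, hf, ef⟩ := half_level_orbit x.1 x.2
  obtain ⟨g, hg, eg⟩ := half_level_orbit y.1 y.2
  refine ⟨⟨g, hg⟩ * ⟨f, hf⟩⁻¹, Subtype.ext ?_⟩
  show (g * f⁻¹) x.1 = y.1
  rw [Equiv.Perm.mul_apply, ← ef, Equiv.Perm.inv_def, Equiv.symm_apply_apply, eg]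

end CfsgLib.RuGroup
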